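import Cfsg.Agent.Lib.FsU.Defs
import Cfsg.Agent.Lib.Tech.Invol
import Cfsg.Agent.Lib.Core.Cores

set_option autoImplicit false
set_option linter.unusedSectionVars false

namespace CfsgLib.FsU

open Subgroup CfsgLib.Tech

universe u

variable {G : Type u} [Group G] [Finite G] {p r : ℕ} {X : Set G} {H K M M' N : Subgroup G}
  {x y z g t u v : G}

/-- an `r`-group normalizing `W < T` has a fixed point on `T / W` -/
theorem fix_quot {T W P : Subgroup G} (hr : r.Prime) (hT : IsPGroup r T) (hP : IsPGroup r P)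
    (hW : W < T) (h1 : P ≤ NN T) (h2 : P ≤ NN W) :
    ∃ x ∈ T, x ∉ W ∧ x ∈ NN W ∧ ∀ a ∈ P, br x a ∈ W := by
  have : Fact (Nat.Prime r) := ⟨hr⟩
  obtain ⟨x₀, hx₀, hn₀⟩ := SetLike.exists_of_lt (lt_inf_normalizer_of_lt hT hW)
  have hPX : P ≤ NN (T ⊓ NN W) := fun a ha => mem_normalizer_of_forall fun x hx => mem_inf.2
    ⟨conj_mem_of_mem_normalizer (h1 ha) hx.1,
      mul_mem (mul_mem (h2 ha) (mem_inf.1 hx).2) (inv_mem (h2 ha))⟩
  have hY := hP.to_sup_of_normal_right' (hT.to_inf_left (K := NN W)) hPX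
  obtain ⟨f, hf⟩ : ∃ f : NN W →* NN W ⧸ W.subgroupOf (NN W), ∀ x, f x = 1 ↔ (x : G) ∈ W :=
    ⟨QuotientGroup.mk' _, fun x => QuotientGroup.eq_one_iff x⟩
  obtain ⟨_, ⟨x, hx, rfl⟩, x2, e⟩ := exists_mem_center_of_normalized
    ((hY.comap_subtype (K := NN W)).map f)
    (N := ((T ⊓ NN W).subgroupOf (NN W)).map f) (map_mono (comap_mono le_sup_right)) (by
      rintro _ ⟨y, hy, rfl⟩
      refine mem_normalizer_of_forall ?_
      rintro _ ⟨x, hx, rfl⟩
      exact ⟨y * x * y⁻¹, conj_mem_of_mem_normalizer (H := T ⊓ NN W)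
        (sup_le hPX le_normalizer hy) hx, by simp⟩)
    fun e => hn₀ ((hf ⟨x₀, hx₀.2⟩).1 (mem_bot.1 (e.le (mem_map_of_mem f hx₀))))
  refine ⟨x, hx.1, fun c => ?_, x.2,
    fun a ha => (hf (x * ⟨a, h2 ha⟩ * x⁻¹ * (⟨a, h2 ha⟩ : NN W)⁻¹)).1 ?_⟩
  · rw [(hf x).2 c, orderOf_one] at x2
    exact hr.one_lt.ne x2
  · rw [map_mul, map_mul, map_mul, ← e _ (mem_map_of_mem f (mem_sup_left ha : a ∈ P ⊔ T ⊓ NN W))]
    simp

/-- counting: a fixed point free action gives all commutators -/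
theorem surj {Q Z : Subgroup G} {a c : G} (hZ : Z ≤ Q) (hn : Q ≤ NN Z) (ha : a ∈ NN Q)
    (ha' : a ∈ NN Z) (hf : ∀ u ∈ Q, a⁻¹ * u * a * u⁻¹ ∈ Z → u ∈ Z) (hc : c ∈ Q) :
    ∃ u ∈ Q, ∃ γ ∈ Z, c = a⁻¹ * u * a * u⁻¹ * γ := by
  have hm : ∀ u : Q, a⁻¹ * u * a * (u : G)⁻¹ ∈ Q := fun u =>
    Q.mul_mem (conj_mem_of_mem_normalizer' ha u.2) (Q.inv_mem u.2)
  let φ : Q ⧸ Z.subgroupOf Q → Q ⧸ Z.subgroupOf Q := fun q => ((⟨_, hm q.out⟩ : Q) : Q ⧸ Z.subgroupOf Q)
  have hinj : Function.Injective φ := by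
    intro q q' e
    have e1 := QuotientGroup.eq.1 e
    rw [mem_subgroupOf] at e1
    have e2 := conj_mem_of_mem_normalizer' (hn q.out.2) e1
    have hw : ((q.out : G))⁻¹ * q'.out ∈ Q := Q.mul_mem (Q.inv_mem q.out.2) q'.out.2
    have e3 := hf _ hw (by
      convert e2 using 1
      simp only [Subgroup.coe_mul, Subgroup.coe_inv]
      group)
    rw [← q.out_eq, ← q'.out_eq]
    exact QuotientGroup.eq.2 (by rw [mem_subgroupOf]; exact e3)
  obtain ⟨q, hq⟩ := Finite.injective_iff_surjective.1 hinj ((⟨c, hc⟩ : Q) : Q ⧸ Z.subgroupOf Q)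
  have e1 := QuotientGroup.eq.1 hq
  rw [mem_subgroupOf] at e1
  refine ⟨q.out, q.out.2, _, e1, ?_⟩
  simp only [Subgroup.coe_mul, Subgroup.coe_inv]
  group

/-- norm map: `Q = [Q, x]` gives `C_Q(x) ≤ Q'` -/
theorem cent_le_comm {Q : Subgroup G} (hr : r.Prime) (hp : p.Prime) (hne : r ≠ p) (hx1 : x ^ p = 1)
    (hQ : IsPGroup r Q) (hx : x ∈ NN Q)
    (hgen : Q ≤ closure {g | ∃ u ∈ Q, g = x⁻¹ * u * x * u⁻¹}) (hz : z ∈ Q) (hc : z * x = x * z) :
    z ∈ ⁅Q, Q⁆ := by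
  have hm : ∀ (i : ℕ) (u : Q), x ^ i * u * (x ^ i)⁻¹ ∈ Q := fun i u =>
    conj_mem_of_mem_normalizer ((NN Q).pow_mem hx i) u.2
  let α : ℕ → Q →* Q := fun i =>
    { toFun := fun u => ⟨_, hm i u⟩
      map_one' := Subtype.ext (by simp)
      map_mul' := fun a b => Subtype.ext (by simp [mul_assoc]) }
  have hα : ∀ i u, ((α i u : Q) : G) = x ^ i * u * (x ^ i)⁻¹ := fun _ _ => rfl
  let n : Q →* Abelianization Q := ∏ i ∈ Finset.range p, (Abelianization.of).comp (α i)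
  have hn : ∀ u, n u = ∏ i ∈ Finset.range p, Abelianization.of (α i u) := fun u => by
    simp only [n, MonoidHom.finset_prod_apply, MonoidHom.comp_apply]
  have hshift : ∀ u w : Q, (w : G) = x⁻¹ * u * x → n w = n u := by
    intro u w e
    have h1 : ∀ i, α (i + 1) w = α i u := fun i => Subtype.ext (by
      rw [hα, hα, e, pow_succ]; group)
    have h2 : α p w = α 0 w := Subtype.ext (by rw [hα, hα, hx1, pow_zero])
    have h3 := Finset.prod_range_succ (fun i => Abelianization.of (α i w)) p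
    rw [Finset.prod_range_succ'] at h3
    simp only [h1, h2] at h3
    rw [hn, hn]
    exact (mul_right_cancel h3).symm
  have hker : closure {g | ∃ u ∈ Q, g = x⁻¹ * u * x * u⁻¹} ≤ n.ker.map Q.subtype := by
    rw [closure_le]
    rintro _ ⟨u, hu, rfl⟩
    have hw : x⁻¹ * u * x ∈ Q := conj_mem_of_mem_normalizer' hx hu
    refine ⟨(⟨_, hw⟩ : Q) * (⟨u, hu⟩ : Q)⁻¹, ?_, rfl⟩
    have := hshift ⟨u, hu⟩ ⟨_, hw⟩ rfl
    simp only [SetLike.mem_coe, MonoidHom.mem_ker, map_mul, map_inv, this, mul_inv_cancel]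
  obtain ⟨z', hz', rfl⟩ := hker (hgen hz)
  have hc' : Commute (z' : G) x := hc
  have h1 : ∀ i, α i z' = z' := fun i => Subtype.ext (by
    rw [hα, ← (hc'.pow_right i).eq]; group)
  have h2 : Abelianization.of z' ^ p = 1 := by
    have : n z' = 1 := hz'
    rw [hn] at this
    simpa [h1] using this
  obtain ⟨k, hk⟩ := hQ z'
  have h3 : Abelianization.of z' ^ r ^ k = 1 := by rw [← map_pow, hk, map_one]
  have h4 : Abelianization.of z' = 1 := by
    have hco : Nat.Coprime p (r ^ k) :=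
      Nat.Coprime.pow_right k ((Nat.coprime_primes hp hr).2 hne.symm)
    rw [← orderOf_eq_one_iff]
    exact Nat.eq_one_of_dvd_coprimes hco (orderOf_dvd_of_pow_eq_one h2)
      (orderOf_dvd_of_pow_eq_one h3)
  have h5 : z' ∈ commutator Q := by
    rw [← Abelianization.ker_of]; exact h4
  rw [← Subgroup.map_subtype_commutator]
  exact mem_map_of_mem _ h5

/-- central-by-`r` and generated by `r`-elements gives an `r`-group -/
theorem pg_of_gen (hr : r.Prime) (hN : ∀ n ∈ N, ∀ k ∈ K, n * k = k * n)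
    (hq : ∀ k ∈ K, ∃ a : ℕ, k ^ r ^ a ∈ N)
    (hgen : K ≤ closure {g | g ∈ K ∧ ∃ a : ℕ, g ^ r ^ a = 1}) : IsPGroup r K := by
  have : Fact r.Prime := ⟨hr⟩
  have h1 : IsPGroup r (K ⧸ center K) := by
    intro q
    obtain ⟨k, rfl⟩ := QuotientGroup.mk_surjective q
    obtain ⟨a, ha⟩ := hq k k.2
    refine ⟨a, ?_⟩
    rw [← QuotientGroup.mk_pow, QuotientGroup.eq_one_iff, mem_center_iff]
    intro g
    exact Subtype.ext (hN _ ha g g.2).symm
  have h2 : Group.IsNilpotent K := of_quotient_center_nilpotent h1.isNilpotent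
  obtain ⟨P⟩ : Nonempty (Sylow r K) := inferInstance
  have h3 : (P : Subgroup K).Normal := inferInstance
  have h4 := IsSylowIn.of_sylow_subgroup P
  refine h4.pgroup.to_le (hgen.trans ?_)
  rw [closure_le]
  rintro g ⟨hg, a, ha⟩
  have := h4.le_of_normalizes (isPGroup_zpowers_of_pow ha) (zpowers_le.2 hg)
    ((zpowers_le.2 hg).trans (Core.le_normalizer_map_subtype_of_normal _))
  exact this (mem_zpowers g)

/-- the same modulo a normal `r`-subgroup -/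
theorem pg_of_gen' (hr : r.Prime) {O : Subgroup G} (hO : O.Normal) (hO' : IsPGroup r O)
    (hN : ∀ n ∈ N, ∀ k ∈ K, br n k ∈ O) (hq : ∀ k ∈ K, ∃ a : ℕ, k ^ r ^ a ∈ N)
    (hgen : K ≤ closure {g | g ∈ K ∧ ∃ a : ℕ, g ^ r ^ a = 1}) : IsPGroup r K := by
  have h1 : IsPGroup r (K.map (QuotientGroup.mk' O)) := by
    refine pg_of_gen (N := N.map (QuotientGroup.mk' O)) hr ?_ ?_ ?_
    · rintro _ ⟨n, hn, rfl⟩ _ ⟨k, hk, rfl⟩
      have := (QuotientGroup.eq_one_iff _).2 (hN n hn k hk)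
      rw [← mul_inv_eq_one, ← this]
      simp [mul_assoc]
    · rintro _ ⟨k, hk, rfl⟩
      obtain ⟨a, ha⟩ := hq k hk
      exact ⟨a, _, ha, by simp⟩
    · refine (map_mono hgen).trans ?_
      rw [MonoidHom.map_closure]
      refine closure_mono ?_
      rintro _ ⟨g, ⟨hg, a, ha⟩, rfl⟩
      exact ⟨mem_map_of_mem _ hg, a, by rw [← map_pow, ha, map_one]⟩
  refine (h1.comap_of_ker_isPGroup (QuotientGroup.mk' O) ?_).to_le (le_comap_map _ _)
  rw [QuotientGroup.ker_mk']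
  exact hO'

end CfsgLib.FsU
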