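import Cfsg.Agent.Lib.FsU.Aff

set_option autoImplicit false
set_option linter.unusedSectionVars false

namespace CfsgLib.FsU

open Subgroup CfsgLib.Tech

universe u

variable {G : Type u} [Group G] [Finite G] {p r : ℕ} {X : Set G} {H K M M' N : Subgroup G}
  {x y z g t u v : G}

theorem tw2_brbr (g w : G) : br g (br g w) = br (g * g) w * (w * (g * w * g⁻¹)⁻¹) ^ 2 := by
  simp only [br, sq]; group

theorem tw2_brQ (A : At p r X H y) (hg : g ∈ H) (hu : u ∈ QQ X H) : br g u ∈ QQ X H :=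
  mul_mem (A.fs.QQ_conj hg hu) (inv_mem hu)

theorem tw2_brZ (A : At p r X H y) (hg : g ∈ H) (hu : u ∈ ZQ X H) : br g u ∈ ZQ X H :=
  mul_mem (A.fs.ZQ_conj hg hu) (inv_mem hu)

theorem tw2_Zn (hu : u ∈ QQ X H) (hv : v ∈ ZQ X H) : u * v * u⁻¹ = v := by
  rw [(mem_ZQ.1 hv).2 u hu, mul_inv_cancel_right]

theorem At.exists_q (A : At p 2 X H y) (ht : t ∈ H) (h2 : t * t = 1) (hn : t * y ≠ y * t) :
    ∃ q ∈ QQ X H, q ∉ ZQ X H ∧ q * t = t * q := by
  obtain ⟨e, he, hδ⟩ := A.decomp ht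
  have he' := QQ_le X H he
  obtain ⟨d, rfl⟩ : ∃ d, t = e * d := ⟨e⁻¹ * t, by group⟩
  rw [inv_mul_cancel_left] at hδ
  have hd : d ∈ H := by simpa using mul_mem (inv_mem he') ht
  let W : Subgroup G :=
    { carrier := {u | u ∈ QQ X H ∧ br d u ∈ ZQ X H}
      one_mem' := ⟨one_mem _, by simp [br]⟩
      mul_mem' := fun {a b} ha hb => ⟨mul_mem ha.1 hb.1, by
        have := mul_mem ha.2 (A.fs.ZQ_conj (QQ_le X H ha.1) hb.2)
        convert this using 1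
        simp only [br]; group⟩
      inv_mem' := fun {a} ha => ⟨inv_mem ha.1, by
        have := A.fs.ZQ_conj (inv_mem (QQ_le X H ha.1)) (inv_mem ha.2)
        convert this using 1
        simp only [br]; group⟩ }
  have yW : y ∈ NN W := mem_normalizer_of_forall fun w hw => ⟨A.fs.QQ_conj A.memH hw.1, by
    have := A.fs.ZQ_conj A.memH hw.2
    convert this using 1
    calc br d (y * w * y⁻¹) = (d * y) * w * (d * y)⁻¹ * y * w⁻¹ * y⁻¹ := by simp only [br]; group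
      _ = _ := by rw [hδ]; simp only [br]; group⟩
  have e1 : d * d = (d * e * d⁻¹)⁻¹ * e⁻¹ := by
    calc d * d = (d * e * d⁻¹)⁻¹ * e⁻¹ * (e * d * (e * d)) := by group
      _ = _ := by rw [h2, mul_one]
  have dd : d * d ∈ ZQ X H := A.mem_Z (e1 ▸ mul_mem (inv_mem (A.fs.QQ_conj hd he)) (inv_mem he)) (by
    rw [mul_assoc, hδ, ← mul_assoc, hδ, mul_assoc])
  have eW : e ∈ W := ⟨he, by
    have := mul_mem (inv_mem (A.pow_mem he)) (A.fs.ZQ_conj he' (inv_mem dd))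
    convert this using 1
    rw [e1]
    simp only [br, sq]; group⟩
  obtain ⟨w, hw, γ, hγ, e2⟩ := A.surj (W := W) (fun _ h => h.1) (fun ζ hζ => ⟨ZQ_le X H hζ, tw2_brZ A hd hζ⟩) yW eW
  have hq : y⁻¹ * w * y * w⁻¹ ∈ QQ X H := by
    have := A.fs.QQ_conj (inv_mem A.memH) hw.1
    rw [inv_inv] at this
    exact mul_mem this (inv_mem hw.1)
  have cγ := A.comm_of_Z hγ
  have c1 : d * (y⁻¹ * w * y * w⁻¹) * d⁻¹ = y⁻¹ * w * y * w⁻¹ := by
    have c2 := A.comm_of_Z hw.2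
    calc _ = (y * d⁻¹)⁻¹ * w * d⁻¹ * (d * y) * w⁻¹ * d⁻¹ := by group
      _ = y⁻¹ * (br d w * y) * (y⁻¹ * w * y * w⁻¹) * (br d w)⁻¹ := by
        rw [show y * d⁻¹ = d⁻¹ * y by rw [eq_inv_mul_iff_mul_eq, ← mul_assoc, hδ, mul_inv_cancel_right], hδ]
        simp only [br]; group
      _ = _ := by
        rw [c2, inv_mul_cancel_left, ← (mem_ZQ.1 hw.2).2 _ hq, mul_inv_cancel_right]
  refine ⟨_, hq, fun h => hn ?_, ?_⟩
  · rw [e2, mul_assoc _ d, hδ, ← mul_assoc, mul_assoc _ γ, cγ, ← mul_assoc, A.comm_of_Z h]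
    group
  · rw [e2]
    have c3 := (mem_ZQ.1 hγ).2 _ hq
    generalize y⁻¹ * w * y * w⁻¹ = q at c1 c3 ⊢
    calc q * (q * γ * d) = q * γ * (q * d) := by rw [mul_assoc q γ (q * d), ← mul_assoc γ, ← c3]
      _ = _ := by rw [← mul_inv_eq_iff_eq_mul.1 c1, ← mul_assoc]

theorem tw2_claim (A : At p 2 X H y) (an : ∀ u ∈ QQ X H, u * u ∈ center G → u ∈ ZQ X H) (hg : g ∈ H)
    (e : ∀ b ∈ ZQ X H, br g b ∈ center G) (hv : v ∈ QQ X H) (h : br g (br g v) ∈ ZQ X H) :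
    br g v ∈ ZQ X H := by
  have ha := tw2_brQ A hg hv
  have s2 : ∀ b ∈ QQ X H, br g b ∈ ZQ X H → br (br g v) b ∈ center G := fun b hb h1 => by
    have := e _ (A.br_mem hv hb)
    have e1 : g * br v b * g⁻¹ = br (br g v * v) (br g b * b) := by simp only [br]; group
    have e2 : br (br g v * v) (br g b) = 1 := by
      rw [br, (mem_ZQ.1 h1).2 _ (mul_mem ha hv), mul_inv_cancel_right, mul_inv_cancel]
    rwa [br, e1, A.br_mul_right (mul_mem ha hv) (ZQ_le X H h1) hb, e2, one_mul, A.br_mul_left ha hv hb,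
      mul_inv_cancel_right] at this
  generalize br g v = a at ha h s2 ⊢
  have ha' : y⁻¹ * a * y ∈ QQ X H := by simpa using A.fs.QQ_conj (inv_mem A.memH) ha
  have hk : (g * y * g⁻¹)⁻¹ * y ∈ QQ X H :=
    mem_QQ (A.fs.conj y A.mem g) A.mem (mul_mem (mul_mem hg A.memH) (inv_mem hg)) A.memH
  have h1 : br g (y⁻¹ * a * y) ∈ ZQ X H := by
    have h2 : y⁻¹ * br g a * y ∈ ZQ X H := by simpa using A.fs.ZQ_conj (inv_mem A.memH) h
    have := mul_mem (A.fs.ZQ_conj (QQ_le X H hk) h2) (A.br_mem hk ha')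
    convert this using 1
    simp only [br]; group
  have h2 := s2 _ ha' h1
  refine A.fpf ha (an _ (mul_mem ha' (inv_mem ha)) ?_)
  have h3 : a * a * y = y * (a * a) := sq a ▸ A.comm_of_Z (A.pow_mem ha)
  have h4 := (inferInstance : (center G).Normal).conj_mem _ h2 a⁻¹
  convert h4 using 1
  calc _ = a⁻¹ * br a (y⁻¹ * a * y) * (y⁻¹ * (a * a * y)) * a⁻¹ := by simp only [br]; group
    _ = _ := by rw [h3]; group

/-- a `2`-element trivial on `Z` modulo the centre is trivial on `Q / Z` -/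
theorem At.triv_of_aniso (A : At p 2 X H y)
    (an : ∀ u ∈ QQ X H, u * u ∈ center G → u ∈ ZQ X H) (hg : g ∈ H) (h4 : g ^ 4 = 1)
    (e : ∀ b ∈ ZQ X H, br g b ∈ center G) (hu : u ∈ QQ X H) : br g u ∈ ZQ X H := by
  have sq2 : ∀ g ∈ H, ∀ w ∈ QQ X H, (w * (g * w * g⁻¹)⁻¹) ^ 2 ∈ ZQ X H := fun g hg w hw =>
    A.pow_mem (mul_mem hw (inv_mem (A.fs.QQ_conj hg hw)))
  have hs := tw2_brQ A (mul_mem hg hg) hu
  have h1 : br (g * g) (br (g * g) u) ∈ ZQ X H := by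
    rw [tw2_brbr, show g * g * (g * g) = g ^ 4 by simp only [pow_succ, pow_zero, one_mul, mul_assoc], h4]
    simpa [br] using sq2 _ (mul_mem hg hg) u hu
  have h2 : br g (br (g * g) u) ∈ ZQ X H := tw2_claim A an hg e hs (by
    rw [tw2_brbr]
    exact mul_mem h1 (sq2 g hg _ hs))
  refine tw2_claim A an hg e hu (tw2_claim A an hg e (tw2_brQ A hg hu) ?_)
  rw [tw2_brbr g u]
  have := mul_mem h2 (A.fs.ZQ_conj (QQ_le X H hs) (tw2_brZ A hg (sq2 g hg u hu)))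
  convert this using 1
  generalize (u * (g * u * g⁻¹)⁻¹) ^ 2 = ζ
  generalize br (g * g) u = s
  simp only [br]; group

theorem At.sq_fix (A : At p 2 X H y) (hg : g ∈ H) (e : ∀ u ∈ QQ X H, br g u ∈ ZQ X H)
    (hz : z ∈ X) (hz' : z ∈ H) : g * g * z = z * (g * g) := by
  obtain ⟨a, ha, hδ⟩ := A.decomp hg
  have c := fun w hw hw' => A.cent_of_triv (y := w) hδ (fun u hu => by
    have := mul_mem (A.fs.ZQ_conj (inv_mem (QQ_le X H ha)) (e u hu)) (A.br_mem (inv_mem ha) hu)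
    convert this using 1
    simp only [br]; group) hw hw'
  have c1 : QQ X H ≤ C1 (a⁻¹ * g) := QQ_le_iff.2 fun v hv w hw hv' hw' =>
    mul_mem (inv_mem (mem_C1.2 (c v hv hv').symm)) (mem_C1.2 (c w hw hw').symm)
  obtain ⟨d, rfl⟩ : ∃ d, g = a * d := ⟨a⁻¹ * g, by group⟩
  rw [inv_mul_cancel_left] at c c1
  have c2 : Commute a d := mem_C1.1 (c1 ha)
  have c3 : Commute (a ^ 2) z := (A.of_mem hz hz').comm_of_Z (A.pow_mem ha)
  rw [← sq, c2.mul_pow]
  exact (c3.mul_left (Commute.pow_left (c z hz hz') 2)).eq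

end CfsgLib.FsU
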