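import Cfsg.Agent.Lib.FsU.Two1
import Cfsg.Agent.Lib.FsU.Two2

set_option autoImplicit false
set_option linter.unusedSectionVars false

namespace CfsgLib.FsU

open Subgroup CfsgLib.Tech

universe u

variable {G : Type u} [Group G] [Finite G] {p r : ℕ} {X : Set G} {H K M M' N : Subgroup G}
  {x y z g t u v : G}

theorem MC.two (h : MC p 2 X) : False := by
  obtain ⟨x, hx, -⟩ := h.exists_ne 1
  obtain ⟨M', hM', xM', -⟩ := h.exists_blk_pair hx hx
  have A' := h.at hM'.ne hx xM'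
  obtain ⟨t, ht, tc⟩ := hM'.exists_Z h
  have t2 : t * t = 1 := sq t ▸ A'.pow_Z ht
  obtain ⟨z, hz, zM'⟩ := hM'.exists_out h
  have tz : t * z ≠ z * t := fun e => zM' (hM'.C1_le h ht tc (mem_C1.2 e.symm))
  have hz' := h.conj z hz t
  have ns : ¬ Sim z (t * z * t⁻¹) := fun e => tz (mul_inv_eq_iff_eq_mul.1 (h.eq_of_sim hz hz' e).symm)
  obtain ⟨M, hM, zM, zM2⟩ := h.exists_blk_pair hz hz'
  have A := h.at hM.ne hz zM
  have hσ := A.pow_mem (mem_QQ hz hz' zM zM2)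
  have tM : t ∈ M := hM.C1_le h hσ (by rwa [sq]) (mem_C1.2 (by
    have i : t⁻¹ = t := inv_eq_of_mul_eq_one_right t2
    have s := A.pow_Z hσ
    rw [sq] at s
    rw [← mul_inv_eq_iff_eq_mul]
    refine Eq.trans ?_ (inv_eq_of_mul_eq_one_right s)
    calc _ = (t * z⁻¹ * (t * z * t⁻¹ * t⁻¹)) ^ 2 := by simp only [sq]; group
      _ = _ := by
        rw [mul_assoc (t * z), ← mul_inv_rev, t2, inv_one, mul_one, ← inv_pow, i]
        congr 1
        rw [mul_inv_rev, mul_inv_rev, mul_inv_rev, i]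
        group))
  obtain ⟨q, hq, qZ, qt⟩ := A.exists_q tM t2 tz
  have z1 : q * q ∈ ZQ X M := sq q ▸ A.pow_mem hq
  have z1c : q * q ∉ center G := fun e => qZ (hM.mem_Z_of_sq h hq e)
  have z2 : q * q * (q * q) = 1 := sq (q * q) ▸ A.pow_Z z1
  have qM' : q ∈ M' := hM'.C1_le h ht tc (mem_C1.2 qt)
  have hne : M ≠ M' := fun e => zM' (e ▸ zM)
  have k1 : ∀ β ∈ ZQ X M', br (q * q) β ∈ center G → br q β ∈ center G := fun β hβ e => by
    have βM : β ∈ M := hM.mem_of_br h z1 z1c (o2_br_inv β _ ▸ inv_mem e)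
    have m1 := tw2_brZ A' qM' hβ
    have m2 : br q β ∈ QQ X M := o2_br_inv q β ▸ inv_mem (tw2_brQ A βM hq)
    by_contra c
    refine hne (hM.eq_of_Z hM' h (hM.mem_Z_of_sq h m2 ?_) m1 c)
    rw [← sq, A'.pow_Z m1]
    exact one_mem _
  have k2 : ∀ g ∈ M', ∀ β ∈ ZQ X M', br g (br g β) = br (g * g) β := fun g hg β hβ => by
    rw [tw2_brbr, A'.pow_Z (mul_mem hβ (inv_mem (A'.fs.ZQ_conj hg hβ))), mul_one]
  have k3 : ∀ β ∈ ZQ X M', br q β ∈ center G := fun β hβ => by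
    have b1 := tw2_brZ A' qM' hβ
    have b2 := tw2_brZ A' qM' b1
    refine k1 β hβ (k2 q qM' β hβ ▸ k1 _ b1 (k2 q qM' _ b1 ▸ k1 _ b2 ?_))
    rw [k2 q qM' β hβ, k2 _ (mul_mem qM' qM') β hβ, z2]
    simp [br]
  refine hne (hM'.eq_of_le hM fun y hy hy' => hM.C1_le h z1 z1c (mem_C1.2 ?_)).symm
  refine (A'.sq_fix qM' (fun u hu => A'.triv_of_aniso (fun u hu e => hM'.mem_Z_of_sq h hu e) qM' ?_ k3 hu)
    hy hy').symm
  rw [← z2]
  simp only [pow_succ, pow_zero, one_mul, mul_assoc]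

end CfsgLib.FsU
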