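import Cfsg.Agent.Lib.FsU.Odd3
import Cfsg.Agent.Lib.FsU.Two3

set_option autoImplicit false
set_option linter.unusedSectionVars false

namespace CfsgLib.FsU

open Subgroup CfsgLib.Tech
open scoped commutatorElement

universe u

variable {G : Type u} [Group G] [Finite G] {p r : ℕ} {X : Set G} {H K M M' N : Subgroup G}
  {x y z g t u v : G}

theorem T2.main_sub (h : T2 p r X) (H : Subgroup G) : T2 p r (H.subtype ⁻¹' X) := by
  refine ⟨⟨h.pp, h.p2, h.rp, h.rne, fun x hx => (orderOf_coe x).symm.trans (h.ord _ hx),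
    fun x hx g => h.conj _ hx g, fun x hx y hy => ?_⟩, fun x hx y hy e => Subtype.ext (h.nab _ hx _ hy ?_)⟩
  · have := h.pg _ hx _ hy
    rw [← map_RR] at this
    exact this.of_equiv (equivMapOfInjective _ _ H.subtype_injective).symm
  · show Ab (RR (H.subtype x) (H.subtype y))
    rw [← map_RR]
    rintro _ ⟨a, ha, rfl⟩ _ ⟨b, hb, rfl⟩
    rw [← map_mul, ← map_mul, e a ha b hb]

theorem main_aux (n : ℕ) : ∀ (G : Type u) [Group G] [Finite G] (X : Set G), Nat.card G = n → T2 p r X →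
    IsPGroup r (QQ X ⊤) := by
  induction n using Nat.strong_induction_on with
  | _ n ih =>
  intro G _ _ X hn h
  haveI := Fact.mk h.rp
  have good : ∀ H : Subgroup G, H ≠ ⊤ → IsPGroup r (QQ X H) := fun H hH => by
    refine ((ih _ ?_ H _ rfl (h.main_sub H)).map H.subtype).to_le (QQ_le_iff.2 fun y hy z hz hy' hz' =>
      ⟨_, mem_QQ (y := ⟨y, hy'⟩) (z := ⟨z, hz'⟩) hy hz (mem_top _) (mem_top _), rfl⟩)
    rw [← hn, ← H.card_mul_index]
    exact lt_mul_of_one_lt_right Nat.card_pos (one_lt_index_of_ne_top hH)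
  by_contra bad
  by_cases zr : IsPGroup r (center G)
  · have M : MC p r X := ⟨h, fun H e => by_contra fun hH =>
      bad ((good H hH).to_le (QQ_mono fun y hy _ => e y hy)), zr, good, bad⟩
    by_cases e : r = 2
    · subst e; exact M.two
    · exact M.odd e
  obtain ⟨s, hs, d, ne⟩ : ∃ s : ℕ, s.Prime ∧ s ∣ Nat.card (center G) ∧ s ≠ r := by
    by_contra hn
    exact zr (IsPGroup.of_card (Nat.eq_prime_pow_of_unique_prime_dvd Nat.card_pos.ne'
      fun hs d => by_contra fun ne => hn ⟨_, hs, d, ne⟩))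
  haveI := Fact.mk hs
  obtain ⟨⟨c, hc⟩, o⟩ := exists_prime_orderOf_dvd_card' s d
  rw [orderOf_mk] at o
  have l : zpowers c ≤ center G := zpowers_le.2 hc
  haveI : (zpowers c).Normal := ⟨fun a ha g => by rwa [mem_center_iff.1 (l ha) g, mul_inv_cancel_right]⟩
  by_cases hp : ∃ x ∈ X, x ∈ zpowers c
  · obtain ⟨x, hx, hx'⟩ := hp
    refine bad (IsPGroup.of_bot.to_le (QQ_le_of_pt hx (mem_top _) fun y hy _ => ?_))
    obtain ⟨u, -, rfl⟩ := h.toFS.exists_conj hx hy
    rw [mem_center_iff.1 (l hx') u, mul_inv_cancel_right, inv_mul_cancel]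
    exact one_mem _
  have k := ih _ (by
    rw [← hn, card_eq_card_quotient_mul_card_subgroup (zpowers c), Nat.card_zpowers, o]
    exact lt_mul_of_one_lt_right Nat.card_pos hs.one_lt) (G ⧸ zpowers c) _ rfl
    ⟨h.toFS.map (QuotientGroup.mk' (zpowers c)) (QuotientGroup.mk'_surjective _)
      fun x hx e => hp ⟨x, hx, (QuotientGroup.eq_one_iff x).1 e⟩, by
      rintro _ ⟨x, hx, rfl⟩ _ ⟨y, hy, rfl⟩ e
      rw [← map_RR] at e
      refine congrArg _ (h.nab x hx y hy fun a ha b hb => ?_)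
      have m : ⁅a, b⁆ ∈ RR x y ⊓ zpowers c :=
        ⟨mul_mem (mul_mem (mul_mem ha hb) ((RR x y).inv_mem ha)) ((RR x y).inv_mem hb),
          (QuotientGroup.eq_one_iff _).1 ((map_commutatorElement (QuotientGroup.mk' (zpowers c)) a b).trans
            (commutatorElement_eq_one_iff_mul_comm.2 (e _ ⟨a, ha, rfl⟩ _ ⟨b, hb, rfl⟩)))⟩
      rw [(IsPGroup.disjoint_of_ne r s ne.symm _ _ (h.pg x hx y hy) (IsPGroup.of_card (n := 1)
        (by rw [Nat.card_zpowers, o, pow_one]))).eq_bot, mem_bot] at m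
      exact commutatorElement_eq_one_iff_mul_comm.1 m⟩
  rw [← map_QQ_top] at k
  refine bad (pg_of_gen h.rp (N := zpowers c) (fun a ha g _ => (mem_center_iff.1 (l ha) g).symm)
    (fun g hg => ?_) (h.toFS.QQ_gen ⊤))
  obtain ⟨a, e⟩ := isPGroup_iff_mem.1 k _ (mem_map_of_mem _ hg)
  exact ⟨a, (QuotientGroup.eq_one_iff _).1 ((map_pow (QuotientGroup.mk' (zpowers c)) g _).trans e)⟩

theorem T2.main (h : T2 p r X) : IsPGroup r (QQ X ⊤) := main_aux _ G X rfl h

/-- the uniform `F`-set theorem -/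
theorem main (h : FS p r X)
    (ht : (∀ x ∈ X, ∀ y ∈ X, Ab (RR x y)) ∨ ∀ x ∈ X, ∀ y ∈ X, Ab (RR x y) → x = y) :
    IsPGroup r (QQ X ⊤) :=
  ht.elim h.typeI fun e => T2.main ⟨h, e⟩

end CfsgLib.FsU
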