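import Cfsg.Agent.Lib.FsU.Base

set_option autoImplicit false
set_option linter.unusedSectionVars false

namespace CfsgLib.FsU

open Subgroup CfsgLib.Tech
open scoped commutatorElement

universe u

variable {G : Type u} [Group G] [Finite G] {p r : ℕ} {X : Set G} {H K M M' N : Subgroup G}
  {x y z g t u v : G}

theorem aff_br_left {a w : G} (h1 : a * u = u * a) (h2 : a * w = w * a) : br (a * u) w = br u w := by
  have : Commute a (u * w * u⁻¹) := (Commute.mul_right h1 h2).mul_right (Commute.inv_right h1)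
  calc br (a * u) w = a * (u * w * u⁻¹) * a⁻¹ * w⁻¹ := by simp only [br]; group
    _ = _ := by rw [this.eq, mul_inv_cancel_right]

theorem aff_br_right {a w : G} (h1 : a * u = u * a) : br u (a * w) = a * br u w * a⁻¹ := by
  calc br u (a * w) = u * a * w * u⁻¹ * w⁻¹ * a⁻¹ := by simp only [br]; group
    _ = _ := by rw [← h1]; group

theorem aff_ab {S : Set G} (h : ∀ a ∈ S, ∀ b ∈ S, a * b = b * a) : Ab (closure S) := fun _ ha b hb =>
  mem_C1.1 ((closure_le (C1 b)).2 (fun a ha => mem_C1.2 (mem_C1.1 ((closure_le (C1 a)).2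
    (fun c hc => mem_C1.2 (h c hc a ha)) hb)).symm) ha)

theorem At.exists_conj (A : At p r X H x) (hy : y ∈ X) (hy' : y ∈ H) :
    ∃ u ∈ QQ X H, y = u * x * u⁻¹ := by
  obtain ⟨u, hu, e⟩ := A.fs.exists_conj A.mem hy
  exact ⟨u, A.fs.RR_le_QQ A.mem hy A.memH hy' hu, e⟩

/-- `H = Q C_H(x)` -/
theorem At.decomp (A : At p r X H x) (hg : g ∈ H) :
    ∃ u ∈ QQ X H, u⁻¹ * g * x = x * (u⁻¹ * g) := by
  obtain ⟨u, hu, e⟩ := A.exists_conj (A.fs.conj x A.mem g) (mul_mem (mul_mem hg A.memH) (inv_mem hg))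
  refine ⟨u, hu, ?_⟩
  calc u⁻¹ * g * x = u⁻¹ * (g * x * g⁻¹) * g := by group
    _ = _ := by rw [e]; group

theorem At.comm_of_Z (A : At p r X H x) (hu : u ∈ ZQ X H) : u * x = x * u :=
  A.t2.comm_of_ab (ab_ZQ X H) A.mem (A.fs.ZQ_norm A.memH) hu

/-- a subgroup normalized by `Q` and centralized by `x` is centralized by `Q` -/
theorem At.cent_of_norm (A : At p r X H x) (hn : QQ X H ≤ NN N) (e : ∀ n ∈ N, n * x = x * n)
    (hv : v ∈ N) (hu : u ∈ QQ X H) : u * v = v * u := by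
  have k : ∀ y ∈ X, y ∈ H → y ∈ C1 v := fun y hy hy' => by
    obtain ⟨w, hw, rfl⟩ := A.exists_conj hy hy'
    refine mem_C1.2 ?_
    calc w * x * w⁻¹ * v = w * (x * (w⁻¹ * v * w)) * w⁻¹ := by group
      _ = _ := by rw [← e _ (conj_mem_of_mem_normalizer' (hn hw) hv)]; group
  exact mem_C1.1 (QQ_le_iff.2 (fun y hy z hz hy' hz' => mul_mem (inv_mem (k y hy hy')) (k z hz hz')) hu)

theorem At.comm_le (A : At p r X H x) : ⁅QQ X H, QQ X H⁆ ≤ ZQ X H := by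
  have DQ : ⁅QQ X H, QQ X H⁆ ⊔ ZQ X H ≤ QQ X H := sup_le (commutator_le_self _) (ZQ_le X H)
  have nD : H ≤ NN (⁅QQ X H, QQ X H⁆ ⊔ ZQ X H) := fun g hg => mem_normalizer_iff_cj.2 (by
    rw [cj_sup, cj_commutator, mem_normalizer_iff_cj.1 (A.fs.QQ_norm hg),
      mem_normalizer_iff_cj.1 (A.fs.ZQ_norm hg)])
  let B : Subgroup G :=
    { carrier := {d | d ∈ ⁅QQ X H, QQ X H⁆ ⊔ ZQ X H ∧ ∀ u ∈ QQ X H, br d u ∈ ZQ X H}
      one_mem' := ⟨one_mem _, fun u _ => by simp [br]⟩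
      mul_mem' := fun {a b} ha hb => ⟨mul_mem ha.1 hb.1, fun u hu => by
        rw [show br (a * b) u = a * br b u * a⁻¹ * br a u by simp only [br]; group]
        exact mul_mem (A.fs.ZQ_conj (QQ_le X H (DQ ha.1)) (hb.2 u hu)) (ha.2 u hu)⟩
      inv_mem' := fun {a} ha => ⟨inv_mem ha.1, fun u hu => by
        rw [show br a⁻¹ u = a⁻¹ * (br a u)⁻¹ * a⁻¹⁻¹ by simp only [br]; group]
        exact A.fs.ZQ_conj (inv_mem (QQ_le X H (DQ ha.1))) (inv_mem (ha.2 u hu))⟩ }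
  have nB : H ≤ NN B := fun g hg => mem_normalizer_of_forall fun d hd =>
    ⟨conj_mem_of_mem_normalizer (nD hg) hd.1, fun u hu => by
      rw [show br (g * d * g⁻¹) u = g * br d (g⁻¹ * u * g⁻¹⁻¹) * g⁻¹ by simp only [br]; group]
      exact A.fs.ZQ_conj hg (hd.2 _ (A.fs.QQ_conj (inv_mem hg) hu))⟩
  have ab : Ab B := fun a ha d hd => mem_C1.1 ((sup_le (commutator_le.2 fun u hu v hv => by
      have h1 := mem_ZQ.1 (hd.2 u hu)
      have h2 := mem_ZQ.1 (hd.2 v hv)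
      have e : d * br u v * d⁻¹ = br u v := by
        rw [show d * br u v * d⁻¹ = br (br d u * u) (br d v * v) by simp only [br]; group,
          aff_br_left (h1.2 u hu).symm (h1.2 _ (mul_mem h2.1 hv)).symm, aff_br_right (h2.2 u hu).symm,
          ← h2.2 _ (mul_mem (mul_mem (mul_mem hu hv) (inv_mem hu)) (inv_mem hv)), mul_inv_cancel_right]
      exact mem_C1.2 (mul_inv_eq_iff_eq_mul.1 e).symm)
    fun z hz => mem_C1.2 ((mem_ZQ.1 hz).2 d (DQ hd.1)).symm : _ ≤ C1 d) ha.1)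
  by_contra hn
  obtain ⟨d, hd, hd', -, e⟩ := fix_quot A.fs.rp (A.pg.to_le DQ) A.pg
    (lt_of_le_of_ne le_sup_right fun e => hn (le_sup_left.trans e.ge)) ((QQ_le X H).trans nD)
    fun _ hg => A.fs.ZQ_norm (QQ_le X H hg)
  exact hd' (mem_ZQ.2 ⟨DQ hd, fun u hu => A.cent_of_norm ((QQ_le X H).trans nB)
    (fun n hn => A.t2.comm_of_ab ab A.mem (nB A.memH) hn) ⟨hd, e⟩ hu⟩)

/-- class at most two -/
theorem At.br_mem (A : At p r X H x) (hu : u ∈ QQ X H) (hv : v ∈ QQ X H) : br u v ∈ ZQ X H :=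
  A.comm_le (commutator_mem_commutator hu hv)

theorem At.mem_Z (A : At p r X H x) (hu : u ∈ QQ X H) (e : u * x = x * u) : u ∈ ZQ X H :=
  mem_ZQ.2 ⟨hu, fun _ hv => A.cent_of_norm (N := QQ X H ⊓ C1 x)
    (fun w hw => mem_normalizer_of_forall fun n hn => by
      rw [show w * n * w⁻¹ = br w n * n by simp only [br]; group]
      exact mul_mem ⟨ZQ_le X H (A.br_mem hw hn.1), mem_C1.2 (A.comm_of_Z (A.br_mem hw hn.1))⟩ hn)
    (fun _ hn => mem_C1.1 hn.2) ⟨hu, mem_C1.2 e⟩ hv⟩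

theorem At.Z_le_comm (A : At p r X H x) : ZQ X H ≤ ⁅QQ X H, QQ X H⁆ := fun _ hz =>
  cent_le_comm A.fs.rp A.fs.pp A.fs.rne (A.fs.pow_eq_one A.mem) A.pg (A.fs.QQ_norm A.memH)
    (A.fs.QQ_le_comm A.mem A.memH) (ZQ_le X H hz) (A.comm_of_Z hz)

/-- bilinearity -/
theorem At.br_mul_left (A : At p r X H x) {w : G} (hu : u ∈ QQ X H) (hv : v ∈ QQ X H)
    (hw : w ∈ QQ X H) : br (u * v) w = br u w * br v w := by
  rw [show br (u * v) w = u * br v w * u⁻¹ * br u w by simp only [br]; group, (mem_ZQ.1 (A.br_mem hv hw)).2 u hu,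
    mul_inv_cancel_right, ab_ZQ X H _ (A.br_mem hu hw) _ (A.br_mem hv hw)]

theorem At.br_mul_right (A : At p r X H x) {w : G} (hu : u ∈ QQ X H) (hv : v ∈ QQ X H)
    (hw : w ∈ QQ X H) : br u (v * w) = br u v * br u w := by
  rw [show br u (v * w) = br u v * (v * br u w * v⁻¹) by simp only [br]; group, (mem_ZQ.1 (A.br_mem hu hw)).2 v hv,
    mul_inv_cancel_right]

theorem At.br_pow_left (A : At p r X H x) (hu : u ∈ QQ X H) (hv : v ∈ QQ X H) (n : ℕ) :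
    br (u ^ n) v = br u v ^ n := by
  induction n with
  | zero => simp [br]
  | succ n ih => rw [pow_succ, A.br_mul_left (pow_mem hu n) hu hv, ih, pow_succ]

theorem At.br_pow_right (A : At p r X H x) (hu : u ∈ QQ X H) (hv : v ∈ QQ X H) (n : ℕ) :
    br u (v ^ n) = br u v ^ n := by
  induction n with
  | zero => simp [br]
  | succ n ih => rw [pow_succ, A.br_mul_right hu (pow_mem hv n) hv, ih, pow_succ]

theorem aff_br_Z (hu : u ∈ ZQ X H) (hv : v ∈ QQ X H) : br u v = 1 := by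
  rw [br, ← (mem_ZQ.1 hu).2 v hv]; group

theorem At.pow_mem (A : At p r X H x) (hu : u ∈ QQ X H) : u ^ r ∈ ZQ X H := by
  haveI := Fact.mk A.fs.rp
  obtain ⟨n, hn⟩ := A.pg.exists_card_eq
  have step : ∀ k, (∀ u ∈ QQ X H, u ^ r ^ (k + 2) ∈ ZQ X H) → ∀ u ∈ QQ X H, u ^ r ^ (k + 1) ∈ ZQ X H :=
    fun k hk u hu => A.mem_Z (Subgroup.pow_mem _ hu _) (A.t2.comm_of_ab
      (A := closure {g | ∃ u ∈ QQ X H, g = u ^ r ^ (k + 1)}) (aff_ab (by
        rintro _ ⟨a, ha, rfl⟩ _ ⟨b, hb, rfl⟩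
        have : br (a ^ r ^ (k + 1)) (b ^ r ^ (k + 1)) = 1 := by
          rw [A.br_pow_right (Subgroup.pow_mem _ ha _) hb, ← A.br_pow_left (Subgroup.pow_mem _ ha _) hb,
            ← pow_mul, ← pow_add, show k + 1 + (k + 1) = k + (k + 2) by ring, pow_add, pow_mul]
          exact aff_br_Z (hk _ (Subgroup.pow_mem _ ha _)) hb
        exact commutatorElement_eq_one_iff_mul_comm.1 this)) A.mem
      (mem_normalizer_of_cj_le (by
        rw [cj, MonoidHom.map_closure, closure_le]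
        rintro _ ⟨_, ⟨a, ha, rfl⟩, rfl⟩
        exact subset_closure ⟨_, A.fs.QQ_conj A.memH ha, by simp [conj_pow]⟩))
      (subset_closure ⟨u, hu, rfl⟩))
  have all : ∀ k, (∀ u ∈ QQ X H, u ^ r ^ (k + 1) ∈ ZQ X H) → ∀ u ∈ QQ X H, u ^ r ∈ ZQ X H := by
    intro k
    induction k with
    | zero => simp
    | succ k ih => exact fun hk => ih (step k hk)
  refine all n (fun u hu => ?_) u hu
  have : u ^ r ^ n = 1 := congrArg Subtype.val (hn ▸ pow_card_eq_one' (x := (⟨u, hu⟩ : QQ X H)))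
  rw [pow_succ, pow_mul, this, one_pow]
  exact one_mem _

theorem At.pow_Z (A : At p r X H x) (hu : u ∈ ZQ X H) : u ^ r = 1 := by
  let E : Subgroup G :=
    { carrier := {z | z ∈ ZQ X H ∧ z ^ r = 1}
      one_mem' := ⟨one_mem _, one_pow _⟩
      mul_mem' := fun {a b} ha hb => ⟨mul_mem ha.1 hb.1, by
        rw [Commute.mul_pow (ab_ZQ X H a ha.1 b hb.1), ha.2, hb.2, one_mul]⟩
      inv_mem' := fun {a} ha => ⟨inv_mem ha.1, by rw [inv_pow, ha.2, inv_one]⟩ }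
  exact ((commutator_le.2 fun a ha b hb => ⟨A.br_mem ha hb, (A.br_pow_left ha hb r).symm.trans
    (aff_br_Z (A.pow_mem ha) hb)⟩ : _ ≤ E) (A.Z_le_comm hu)).2

theorem At.fpf (A : At p r X H x) (hu : u ∈ QQ X H) (e : x⁻¹ * u * x * u⁻¹ ∈ ZQ X H) :
    u ∈ ZQ X H :=
  A.mem_Z hu (mul_inv_eq_iff_eq_mul.1 (A.t2.eq_of_ab (ab_ZQ X H) A.mem (A.fs.ZQ_norm A.memH)
    (A.fs.conj x A.mem u) (by rwa [← mul_assoc, ← mul_assoc])).symm)

theorem At.surj (A : At p r X H x) {W : Subgroup G} (hW : W ≤ QQ X H) (hZ : ZQ X H ≤ W)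
    (hx : x ∈ NN W) {c : G} (hc : c ∈ W) :
    ∃ w ∈ W, ∃ γ ∈ ZQ X H, c = x⁻¹ * w * x * w⁻¹ * γ :=
  FsU.surj hZ (fun _ hg => A.fs.ZQ_norm (QQ_le X H (hW hg))) hx (A.fs.ZQ_norm A.memH)
    (fun _ hu => A.fpf (hW hu)) hc

theorem At.Z_mono (A : At p r X H x) (B : At p r X K x) (h : ∀ y ∈ X, y ∈ H → y ∈ K) :
    ZQ X H ≤ ZQ X K :=
  A.Z_le_comm.trans ((commutator_mono (QQ_mono h) (QQ_mono h)).trans B.comm_le)

/-- an element centralizing `x` and `Q / Z` centralizes all points -/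
theorem At.cent_of_triv (A : At p r X H x) {d : G} (e : d * x = x * d)
    (h : ∀ u ∈ QQ X H, br d u ∈ ZQ X H) (hy : y ∈ X) (hy' : y ∈ H) : d * y = y * d := by
  have c := fun u hu => (A.of_mem hy hy').comm_of_Z (h u hu)
  obtain ⟨u, hu, rfl⟩ := A.exists_conj hy hy'
  calc d * (u * x * u⁻¹) = br d u * u * (d * x) * u⁻¹ := by simp only [br]; group
    _ = br d u * (u * x * u⁻¹) * (br d u)⁻¹ * d := by rw [e]; group
    _ = _ := by rw [c u hu, mul_inv_cancel_right]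

/-- the line through two points, as a good subgroup -/
theorem T2.at_line (h : T2 p r X) (hx : x ∈ X) (hy : y ∈ X) :
    At p r X (RR x y ⊔ zpowers x) x ∧ y ∈ RR x y ⊔ zpowers x ∧
      QQ X (RR x y ⊔ zpowers x) = RR x y := by
  have m : x ∈ RR x y ⊔ zpowers x := mem_sup_right (mem_zpowers x)
  have m' : y ∈ RR x y ⊔ zpowers x := (mul_mem_cancel_left (inv_mem m)).1 (mem_sup_left (mem_RR x y))
  have l := h.toFS.QQ_le_of_norm hx (RR_norm x y)
  exact ⟨⟨h, (h.pg x hx y hy).to_le l, hx, m⟩, m', le_antisymm l (h.toFS.RR_le_QQ hx hy m m')⟩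

end CfsgLib.FsU
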