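import Cfsg.Agent.Lib.FsU.Base1

set_option autoImplicit false
set_option linter.unusedSectionVars false

namespace CfsgLib.FsU

open Subgroup CfsgLib.Tech

universe u

variable {G : Type u} [Group G] [Finite G] {p r : ℕ} {X : Set G} {H K M M' N : Subgroup G}
  {x y z g t u v : G}

theorem ba_eq_one {a b : ℕ} (hp : p.Prime) (hr : r.Prime) (hne : r ≠ p) (h1 : g ^ p ^ a = 1)
    (h2 : g ^ r ^ b = 1) : g = 1 := by
  have hco : Nat.Coprime (p ^ a) (r ^ b) :=
    Nat.Coprime.pow a b ((Nat.coprime_primes hp hr).2 hne.symm)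
  rw [← orderOf_eq_one_iff]
  exact Nat.eq_one_of_dvd_coprimes hco (orderOf_dvd_of_pow_eq_one h1)
    (orderOf_dvd_of_pow_eq_one h2)

theorem ba_mem_sup (hN : x ∈ NN N) (hg : g ∈ N ⊔ zpowers x) :
    ∃ n ∈ N, ∃ k : ℕ, g = n * x ^ k := by
  obtain ⟨n, hn, c, hc, rfl⟩ := (Core.mem_sup_of_le_normalizer_left (zpowers_le.2 hN)).1 hg
  obtain ⟨k, rfl⟩ := mem_powers_iff_mem_zpowers.2 hc
  exact ⟨n, hn, k, rfl⟩

theorem ba_pow {c n : G} (hc : c ∈ NN N) (hn : n ∈ N) (m : ℕ) :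
    (n * c) ^ m * (c ^ m)⁻¹ ∈ N := by
  induction m with
  | zero => simp
  | succ m ih =>
    have := N.mul_mem hn (conj_mem_of_mem_normalizer hc ih)
    convert this using 1
    rw [pow_succ' (n * c), pow_succ' c]
    group

theorem FS.QQ_gen (h : FS p r X) (H : Subgroup G) :
    QQ X H ≤ closure {g | g ∈ QQ X H ∧ ∃ a : ℕ, g ^ r ^ a = 1} := by
  refine QQ_le_iff.2 fun y hy z hz hy' hz' => subset_closure ⟨mem_QQ hy hz hy' hz', ?_⟩
  exact isPGroup_iff_mem.1 (h.pg y hy z hz) _ (mem_RR y z)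

theorem FS.mem_of_sup (h : FS p r X) (hx : x ∈ X) (hN : x ∈ NN N) (hy : y ∈ X)
    (hy' : y ∈ N ⊔ zpowers x) : x⁻¹ * y ∈ N := by
  have hg : x⁻¹ * y ∈ N ⊔ zpowers x :=
    mul_mem (inv_mem (mem_sup_right (mem_zpowers x))) hy'
  obtain ⟨n, hn, k, e⟩ := ba_mem_sup hN hg
  have h1 := ba_pow ((NN N).pow_mem hN k) hn p
  rw [← pow_mul, mul_comm k p, pow_mul, h.pow_eq_one hx, one_pow, inv_one, mul_one, ← e] at h1
  obtain ⟨a, ha⟩ := isPGroup_iff_mem.1 (h.pg x hx y hy) _ (mem_RR x y)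
  have h2 : x⁻¹ * y ∈ zpowers ((x⁻¹ * y) ^ p) := by
    rw [mem_zpowers_pow_iff]
    exact Nat.Coprime.coprime_dvd_right (orderOf_dvd_of_pow_eq_one ha)
      (Nat.Coprime.pow_right a ((Nat.coprime_primes h.pp h.rp).2 h.rne.symm))
  exact zpowers_le.2 h1 h2

theorem FS.QQ_le_of_norm (h : FS p r X) (hx : x ∈ X) (hN : x ∈ NN N) :
    QQ X (N ⊔ zpowers x) ≤ N := by
  exact QQ_le_of_pt hx (mem_sup_right (mem_zpowers x)) fun y hy hy' => h.mem_of_sup hx hN hy hy'

theorem FS.exists_conj (h : FS p r X) (hx : x ∈ X) (hy : y ∈ X) :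
    ∃ u ∈ RR x y, y = u * x * u⁻¹ := by
  have : Fact p.Prime := ⟨h.pp⟩
  have hR := h.pg x hx y hy
  have hn := RR_norm x y
  have hx1 : x ^ p ^ 1 = 1 := by rw [pow_one, h.pow_eq_one hx]
  have hy1 : y ^ p ^ 1 = 1 := by rw [pow_one, h.pow_eq_one hy]
  have hS : IsSylowIn p (zpowers x) (RR x y ⊔ zpowers x) := by
    refine isSylowIn_of_maximal (isPGroup_zpowers_of_pow hx1) le_sup_right fun T hT h1 h2 g hg => ?_
    obtain ⟨n, hn', k, e⟩ := ba_mem_sup hn (h2 hg)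
    have h3 : n ∈ T := by
      have := T.mul_mem hg (T.inv_mem (T.pow_mem (h1 (mem_zpowers x)) k))
      rwa [e, mul_inv_cancel_right] at this
    obtain ⟨a, ha⟩ := isPGroup_iff_mem.1 hT n h3
    obtain ⟨b, hb⟩ := isPGroup_iff_mem.1 hR n hn'
    rw [e, ba_eq_one h.pp h.rp h.rne ha hb, one_mul]
    exact pow_mem (mem_zpowers x) k
  have hyE : y ∈ RR x y ⊔ zpowers x := by
    have := mul_mem (mem_sup_right (mem_zpowers x) : x ∈ RR x y ⊔ zpowers x)
      (mem_sup_left (mem_RR x y))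
    rwa [mul_inv_cancel_left] at this
  obtain ⟨g, hg, e⟩ := hS.exists_conj_mem hyE (isPGroup_zpowers_of_pow hy1)
  have h1 := h.mem_of_sup hx hn (h.conj y hy g) (mem_sup_right e)
  obtain ⟨a, ha⟩ := isPGroup_iff_mem.1 hS.pgroup _ (mul_mem (inv_mem (mem_zpowers x)) e)
  obtain ⟨b, hb⟩ := isPGroup_iff_mem.1 hR _ h1
  have h2 := ba_eq_one h.pp h.rp h.rne ha hb
  obtain ⟨n, hn', k, e'⟩ := ba_mem_sup hn (inv_mem hg)
  refine ⟨n, hn', ?_⟩
  have h3 : y = g⁻¹ * x * g⁻¹⁻¹ := by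
    rw [inv_mul_eq_one] at h2
    rw [h2]; group
  rw [h3, e']
  group

/-- `QQ X H = [QQ X H, x]` -/
theorem FS.QQ_le_comm (h : FS p r X) (hx : x ∈ X) (hx' : x ∈ H) :
    QQ X H ≤ closure {g | ∃ u ∈ QQ X H, g = x⁻¹ * u * x * u⁻¹} := by
  refine QQ_le_of_pt hx hx' fun y hy hy' => ?_
  obtain ⟨u, hu, e⟩ := h.exists_conj hx hy
  exact subset_closure ⟨u, h.RR_le_QQ hx hy hx' hy' hu, by rw [e]; group⟩

/-- an element commuting with `x ^ 2` commutes with `x` -/
theorem FS.comm_of_sq (h : FS p r X) (hx : x ∈ X) (e : g * (x * x) = x * x * g) :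
    g * x = x * g := by
  have h2 : x ∈ zpowers (x ^ 2) := by
    rw [mem_zpowers_pow_iff, h.ord x hx]
    exact (Nat.coprime_primes Nat.prime_two h.pp).2 h.p2.symm
  obtain ⟨k, hk⟩ := mem_zpowers_iff.1 h2
  have h3 : Commute g (x ^ 2) := by rw [sq]; exact e
  have := (h3.zpow_right k).eq
  rwa [hk] at this

theorem T2.eq_of_ab (h : T2 p r X) {A : Subgroup G} (hA : Ab A) (hx : x ∈ X) (hn : x ∈ NN A)
    (hy : y ∈ X) (e : x⁻¹ * y ∈ A) : x = y := by
  exact h.nab x hx y hy fun a ha b hb => hA a (RR_le hn e ha) b (RR_le hn e hb)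

theorem T2.comm_of_ab (h : T2 p r X) {A : Subgroup G} (hA : Ab A) (hx : x ∈ X) (hn : x ∈ NN A)
    (hu : u ∈ A) : u * x = x * u := by
  have h1 := h.eq_of_ab hA hx hn (h.conj x hx u) (by
    have := A.mul_mem (conj_mem_of_mem_normalizer' hn hu) (A.inv_mem hu)
    convert this using 1
    group)
  calc u * x = u * x * u⁻¹ * u := by group
    _ = x * u := by rw [← h1]

theorem T2.comm_of_center (h : T2 p r X) (hx : x ∈ X) (e : br v x ∈ center G) :
    v * x = x * v := by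
  have h1 := h.eq_of_ab (A := center G) (fun a _ b hb => mem_center_iff.1 hb a) hx
    (by rw [NN, normalizer_eq_top]; trivial) (h.conj x hx v) (by
    have := (inferInstance : (center G).Normal).conj_mem _ e x⁻¹
    convert this using 1
    group)
  calc v * x = v * x * v⁻¹ * v := by group
    _ = x * v := by rw [← h1]

theorem MC.exists_ne (h : MC p r X) (x : G) : ∃ y ∈ X, y ≠ x := by
  by_contra hc
  push Not at hc
  refine h.bad (IsPGroup.of_bot.to_le (QQ_le_iff.2 fun y hy z hz _ _ => ?_))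
  rw [hc y hy, hc z hz, inv_mul_cancel]
  exact one_mem _

theorem MC.mem_center (h : MC p r X) (e : ∀ x ∈ X, v * x = x * v) : v ∈ center G := by
  have := h.gen (C1 v) fun x hx => mem_C1.2 (e x hx).symm
  exact mem_center_iff.2 fun g => mem_C1.1 (this.ge (mem_top g))

/-- `Z(G / Z(G)) = 1` -/
theorem MC.mem_center' (h : MC p r X) (e : ∀ x ∈ X, br v x ∈ center G) : v ∈ center G := by
  exact h.mem_center fun x hx => h.toT2.comm_of_center hx (e x hx)

theorem MC.not_center (h : MC p r X) (hx : x ∈ X) : x ∉ center G := by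
  intro hc
  obtain ⟨y, hy, hne⟩ := h.exists_ne x
  obtain ⟨u, -, e⟩ := h.toFS.exists_conj hx hy
  exact hne (by rw [e, mem_center_iff.1 hc u]; group)

theorem C1_ne_top (hv : v ∉ center G) : C1 v ≠ ⊤ := by
  intro e
  exact hv (mem_center_iff.2 fun g => mem_C1.1 (e.ge (mem_top g)))

theorem MC.sup_eq_top (h : MC p r X) (hx : x ∈ X) : QQ X ⊤ ⊔ zpowers x = ⊤ := by
  refine h.gen _ fun y hy => ?_
  have := mul_mem (mem_sup_right (mem_zpowers x) : x ∈ QQ X ⊤ ⊔ zpowers x)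
    (mem_sup_left (mem_QQ hx hy (mem_top _) (mem_top _)))
  rwa [mul_inv_cancel_left] at this

theorem MC.le_center (h : MC p r X) (hN : N.Normal) (hx : x ∈ X)
    (e : ∀ n ∈ N, br n x ∈ center G) : N ≤ center G := by
  intro n hn
  refine h.mem_center fun y hy => ?_
  obtain ⟨u, -, rfl⟩ := h.toFS.exists_conj hx hy
  have h1 := h.toT2.comm_of_center hx (e _ (hN.conj_mem n hn u⁻¹))
  calc n * (u * x * u⁻¹) = u * (u⁻¹ * n * u⁻¹⁻¹ * x) * u⁻¹ := by group
    _ = u * x * u⁻¹ * n := by rw [h1]; group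

/-- an `r`-group normalized by a point, together with the point, generates a proper subgroup -/
theorem MC.sup_ne_top (h : MC p r X) (hx : x ∈ X) (hN : IsPGroup r N) (hn : x ∈ NN N) :
    N ⊔ zpowers x ≠ ⊤ := by
  exact h.ne_top (hN.to_le (h.toFS.QQ_le_of_norm hx hn))

end CfsgLib.FsU
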