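import Cfsg.Agent.Lib.FsU.Base

set_option autoImplicit false
set_option linter.unusedSectionVars false

namespace CfsgLib.FsU

open Subgroup CfsgLib.Tech
open scoped commutatorElement

universe u

variable {G : Type u} [Group G] [Finite G] {p r : ℕ} {X : Set G} {H K M M' N : Subgroup G}
  {x y z g t u v : G}

theorem typeI_core (hc : ∀ x ∈ X, ∀ g : G, g * x * g⁻¹ ∈ X)
    (hr : ∀ x ∈ X, ∀ y ∈ X, ∃ a : ℕ, (x⁻¹ * y) ^ r ^ a = 1)
    (hs : ∀ x ∈ X, ∀ y ∈ X, ∃ z ∈ X, x * y = z * z) : IsPGroup r (QQ X ⊤) := by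
  have k : ∀ y ∈ X, (fun x => x * y) '' X = (fun z => z * z) '' X := fun y hy =>
    Set.eq_of_subset_of_ncard_le (by
      rintro _ ⟨x, hx, rfl⟩
      obtain ⟨z, hz, e⟩ := hs x hx y hy
      exact ⟨z, hz, e.symm⟩) (by
      rw [Set.ncard_image_of_injective _ (mul_left_injective y)]
      exact Set.ncard_image_le)
  let N : Subgroup G :=
    { carrier := {g | (fun x => x * g) '' X = X}
      one_mem' := by simp
      mul_mem' := fun {a b} ha hb => by
        have : (fun x => x * (a * b)) '' X = (fun x => x * b) '' ((fun x => x * a) '' X) := by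
          simp only [Set.image_image, mul_assoc]
        rw [Set.mem_setOf_eq, this, ha, hb]
      inv_mem' := fun {a} ha => by
        rw [Set.mem_setOf_eq] at ha ⊢
        conv_lhs => rw [← ha]
        simp only [Set.image_image, mul_inv_cancel_right, Set.image_id'] }
  have l : QQ X ⊤ ≤ N := QQ_le_iff.2 fun y hy z hz _ _ => by
    have m := hc z hz y⁻¹
    have : (fun x => x * (y⁻¹ * z)) '' X =
        (fun x => x * y⁻¹) '' ((fun x => x * (y⁻¹ * z * y⁻¹⁻¹)) '' X) := by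
      simp only [Set.image_image, inv_inv, mul_assoc, mul_inv_cancel, mul_one]
    show _ = _
    rw [this, k _ m, ← k y hy]
    simp only [Set.image_image, mul_inv_cancel_right, Set.image_id']
  rcases X.eq_empty_or_nonempty with rfl | ⟨x, hx⟩
  · exact IsPGroup.of_bot.to_le (QQ_le_iff.2 fun _ hy => hy.elim)
  refine isPGroup_iff_mem.2 fun g hg => ?_
  have : x * g ∈ X := (l hg : _ = _) ▸ Set.mem_image_of_mem (fun x => x * g) hx
  simpa using hr x hx _ this

theorem FS.typeI (h : FS p r X) (hab : ∀ x ∈ X, ∀ y ∈ X, Ab (RR x y)) : IsPGroup r (QQ X ⊤) := by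
  refine typeI_core h.conj (fun x hx y hy => isPGroup_iff_mem.1 (h.pg x hx y hy) _ (mem_RR x y))
    fun x hx y hy => ?_
  have m : x ∈ RR x y ⊔ zpowers x := mem_sup_right (mem_zpowers x)
  have e : QQ X (RR x y ⊔ zpowers x) = RR x y := le_antisymm (h.QQ_le_of_norm hx (RR_norm x y))
    (h.RR_le_QQ hx hy m ((mul_mem_cancel_left (inv_mem m)).1 (mem_sup_left (mem_RR x y))))
  have g := h.QQ_le_comm hx m
  rw [e] at g
  obtain ⟨u, -, γ, hγ, q⟩ := surj (Q := RR x y) (Z := ⊥) (a := x * x) bot_le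
    (fun g _ => mem_normalizer_iff_cj.2 (cj_bot g)) (mul_mem (RR_norm x y) (RR_norm x y))
    (mem_normalizer_iff_cj.2 (cj_bot _)) (fun u hu e => (commutator_le.2 fun a ha b hb =>
      mem_bot.2 (commutatorElement_eq_one_iff_mul_comm.2 (hab x hx y hy a ha b hb)) : _ ≤ ⊥)
      (cent_le_comm h.rp h.pp h.rne (h.pow_eq_one hx) (h.pg x hx y hy) (RR_norm x y) g hu
        (h.comm_of_sq hx (by
          rw [mem_bot, mul_inv_eq_one, mul_assoc, inv_mul_eq_iff_eq_mul] at e
          exact e)))) (mem_RR x y)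
  refine ⟨_, h.conj x hx u, ?_⟩
  rw [mem_bot.1 hγ, mul_one] at q
  calc x * y = x * x * (x⁻¹ * y) := by group
    _ = _ := by rw [q]; group

theorem map_QQ_top {L : Type u} [Group L] (f : G →* L) (X : Set G) :
    (QQ X ⊤).map f = QQ (f '' X) ⊤ := by
  refine le_antisymm (map_le_iff_le_comap.2 (QQ_le_iff.2 fun y hy z hz _ _ => ?_)) (QQ_le_iff.2 ?_)
  · rw [mem_comap, map_mul, map_inv]
    exact mem_QQ ⟨y, hy, rfl⟩ ⟨z, hz, rfl⟩ (mem_top _) (mem_top _)
  · rintro _ ⟨y, hy, rfl⟩ _ ⟨z, hz, rfl⟩ _ _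
    exact ⟨_, mem_QQ hy hz (mem_top _) (mem_top _), by rw [map_mul, map_inv]⟩

theorem FS.map {L : Type u} [Group L] (h : FS p r X) (f : G →* L) (hf : Function.Surjective f)
    (h1 : ∀ x ∈ X, f x ≠ 1) : FS p r (f '' X) := by
  haveI := Fact.mk h.pp
  refine ⟨h.pp, h.p2, h.rp, h.rne, ?_, ?_, ?_⟩
  · rintro _ ⟨x, hx, rfl⟩
    exact orderOf_eq_prime (by rw [← map_pow, h.pow_eq_one hx, map_one]) (h1 x hx)
  · rintro _ ⟨x, hx, rfl⟩ g
    obtain ⟨g, rfl⟩ := hf g
    exact ⟨_, h.conj x hx g, by rw [map_mul, map_mul, map_inv]⟩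
  · rintro _ ⟨x, hx, rfl⟩ _ ⟨y, hy, rfl⟩
    rw [← map_RR]
    exact (h.pg x hx y hy).map f

/-- the lines are not all abelian modulo the centre -/
theorem MC.not_cent (h : MC p r X)
    (e : ∀ x ∈ X, ∀ y ∈ X, ∀ a ∈ RR x y, ∀ b ∈ RR x y, br a b ∈ center G) : False := by
  have := (h.toFS.map (QuotientGroup.mk' (center G)) (QuotientGroup.mk'_surjective _)
    fun x hx e => h.not_center hx ((QuotientGroup.eq_one_iff x).1 e)).typeI (by
      rintro _ ⟨x, hx, rfl⟩ _ ⟨y, hy, rfl⟩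
      rw [← map_RR]
      rintro _ ⟨a, ha, rfl⟩ _ ⟨b, hb, rfl⟩
      rw [← commutatorElement_eq_one_iff_mul_comm, ← map_commutatorElement]
      exact (QuotientGroup.eq_one_iff _).2 (e x hx y hy a ha b hb))
  rw [← map_QQ_top] at this
  exact h.bad ((this.comap_of_ker_isPGroup _ (by rw [QuotientGroup.ker_mk']; exact h.zr)).to_le
    (le_comap_map _ _))

end CfsgLib.FsU
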