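import Cfsg.Agent.Lib.FsU.Hol
import Cfsg.Agent.Lib.FsU.TypeI

set_option autoImplicit false
set_option linter.unusedSectionVars false

namespace CfsgLib.FsU

open Subgroup CfsgLib.Tech

universe u

variable {G : Type u} [Group G] [Finite G] {p r : ℕ} {X : Set G} {H K M M' N : Subgroup G}
  {x y z g t u v : G}

theorem blk_mem (h : FS p r X) (e : ∀ y ∈ X, y ∈ K → g * y * g⁻¹ ∈ K) :
    g ∈ normalizer (X ∩ (K : Set G)) :=
  mem_normalizer_fintype fun n hn => ⟨h.conj n hn.1 g, e n hn.1 hn.2⟩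

theorem blk_le (h : FS p r X) (K : Subgroup G) : K ≤ normalizer (X ∩ (K : Set G)) := fun _ hg =>
  blk_mem h fun _ _ hy => mul_mem (mul_mem hg hy) (inv_mem hg)

theorem blk_ne (h : MC p r X) (hK : K ≠ ⊤) (hx : x ∈ X) (hx' : x ∈ K) :
    normalizer (X ∩ (K : Set G)) ≠ ⊤ := fun e => hK (h.gen K fun y hy => by
  obtain ⟨u, -, rfl⟩ := h.toFS.exists_conj hx hy
  exact ((mem_set_normalizer_iff.1 (e ▸ mem_top u) x).1 ⟨hx, hx'⟩).2)

theorem blk_sup (h1 : g ∈ NN H) (h2 : g ∈ NN K) : g ∈ NN (H ⊔ K) := mem_normalizer_iff_cj.2 (by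
  rw [cj_sup, mem_normalizer_iff_cj.1 h1, mem_normalizer_iff_cj.1 h2])

theorem blk_zp (h : MC p r X) (hx : x ∈ X) : zpowers x ≠ ⊤ := by
  simpa using h.sup_ne_top hx (N := ⊥) IsPGroup.of_bot (mem_normalizer_iff_cj.2 (cj_bot x))

theorem blk_nc (h : MC p r X) (hx : x ∈ X) : ∃ y ∈ X, ¬ RR x y ≤ center G := by
  obtain ⟨y, hy, ne⟩ := h.exists_ne x
  exact ⟨y, hy, fun e => ne (h.nab x hx y hy fun a _ b hb => mem_center_iff.1 (e hb) a).symm⟩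

theorem MC.exists_blk (h : MC p r X) (hH : H ≠ ⊤) :
    ∃ M : Subgroup G, Blk X M ∧ ∀ x ∈ X, x ∈ H → x ∈ M := by
  wlog hp : ∃ x ∈ X, x ∈ H generalizing H
  · obtain ⟨x, hx, -⟩ := h.exists_ne 1
    obtain ⟨M, hM, -⟩ := this (blk_zp h hx) ⟨x, hx, mem_zpowers x⟩
    exact ⟨M, hM, fun y hy hy' => (hp ⟨y, hy, hy'⟩).elim⟩
  obtain ⟨x, hx, hx'⟩ := hp
  obtain ⟨K, ⟨hK, l⟩, mx⟩ := Set.exists_max_image {K : Subgroup G | K ≠ ⊤ ∧ ∀ x ∈ X, x ∈ H → x ∈ K}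
    (fun K => (X ∩ (K : Set G)).ncard) (Set.toFinite _) ⟨H, hH, fun _ _ h => h⟩
  refine ⟨_, ⟨blk_ne h hK hx (l x hx hx'), fun K' hK' l' => ?_⟩,
    fun y hy hy' => blk_le h.toFS K (l y hy hy')⟩
  have s : X ∩ (K : Set G) ⊆ X ∩ (K' : Set G) := fun y hy => ⟨hy.1, l' y hy.1 (blk_le h.toFS K hy.2)⟩
  rw [Set.eq_of_subset_of_ncard_le s (mx K' ⟨hK', fun y hy hy' => (s ⟨hy, l y hy hy'⟩).2⟩)]
  exact blk_le h.toFS K'

theorem Blk.exists_pt (hM : Blk X M) (h : MC p r X) : ∃ x ∈ X, x ∈ M := by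
  by_contra hn
  obtain ⟨x, hx, -⟩ := h.exists_ne 1
  exact hn ⟨x, hx, hM.mx _ (blk_zp h hx) (fun y hy hy' => (hn ⟨y, hy, hy'⟩).elim) (mem_zpowers x)⟩

theorem Blk.cj (hM : Blk X M) (h : FS p r X) (g : G) : Blk X (cj g M) := by
  refine ⟨fun e => hM.ne (cj_injective g (e.trans (cj_top g).symm)), fun K hK l => ?_⟩
  rw [← cj_le_cj_iff g, cj_cj_inv g K |>.symm, cj_le_cj_iff, cj_le_cj_iff]
  exact hM.mx _ (fun e => hK (cj_injective g⁻¹ (e.trans (cj_top _).symm))) fun y hy hy' =>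
    mem_cj.2 (by rw [inv_inv]; exact l _ (h.conj y hy g) (conj_mem_cj.2 hy'))

/-- an invariant `r`-group lies in an invariant Sylow subgroup -/
theorem MC.exists_sylow (h : MC p r X) (hx : x ∈ X) (hr : IsPGroup r N) (hn : x ∈ NN N) :
    ∃ U : Subgroup G, IsSylowIn r U ⊤ ∧ N ≤ U ∧ x ∈ NN U := by
  haveI := Fact.mk h.rp
  obtain ⟨P, l, ⟨hP, nP⟩, mx⟩ := Finite.exists_le_maximal
    (p := fun P : Subgroup G => IsPGroup r P ∧ x ∈ NN P) ⟨hr, hn⟩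
  have k : ∀ R : Subgroup G, IsPGroup r R → x ∈ NN R → R ≤ NN P → R ≤ P := fun R hR nR l =>
    le_sup_left.trans (mx ⟨hR.to_sup_of_normal_right' hP l, blk_sup nR nP⟩ le_sup_right)
  obtain ⟨y, hy, nc⟩ := blk_nc h hx
  have ne := h.NN_ne hP fun e => nc ((k _ (h.pg x hx y hy) (RR_norm x y) fun g _ =>
    mem_normalizer_of_forall fun a ha => by
      rwa [mem_center_iff.1 (e ha) g, mul_inv_cancel_right]).trans e)
  have A := h.at ne hx nP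
  have lQ := k _ A.pg (h.toFS.QQ_norm nP) (QQ_le X _)
  refine ⟨P, ?_, l, nP⟩
  by_contra hn
  obtain ⟨R, hR, lt, -, nR⟩ := exists_lt_pgroup_normalizer hP le_top hn
  obtain ⟨g, hg, hg'⟩ := SetLike.exists_of_lt lt
  obtain ⟨u, hu, e⟩ := A.decomp (nR hg)
  have m := mul_mem (inv_mem (lt.le (lQ hu))) hg
  exact hg' ((mul_mem_cancel_left (inv_mem (lQ hu))).1 (k _ (hR.to_le (zpowers_le.2 m))
    (mem_normalizer_iff_cj.2 (by rw [cj_zpowers, ← e, mul_inv_cancel_right])) (zpowers_le.2 (nR m))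
    (mem_zpowers _)))

theorem Blk.exists_sylow (hM : Blk X M) (h : MC p r X) :
    ∃ U : Subgroup G, IsSylowIn r U ⊤ ∧ NN U ≤ M ∧ ∀ x ∈ X, x ∈ M → x ∈ NN U := by
  haveI := Fact.mk h.rp
  obtain ⟨x, hx, hx'⟩ := hM.exists_pt h
  obtain ⟨U, hU, l, n⟩ := h.exists_sylow hx (h.good M hM.ne) (h.toFS.QQ_norm hx')
  have k : ∀ y ∈ X, y ∈ M → y ∈ NN U := fun y hy hy' =>
    (mul_mem_cancel_left (inv_mem n)).1 (le_normalizer (l (mem_QQ hx hy hx' hy')))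
  obtain ⟨y, hy, nc⟩ := blk_nc h hx
  exact ⟨U, hU, hM.mx _ (h.NN_ne hU.pgroup fun e => nc ((hU.le_of_normalizes (h.pg x hx y hy) le_top
    fun g _ => mem_normalizer_of_forall fun a ha => by
      rwa [mem_center_iff.1 (e ha) g, mul_inv_cancel_right]).trans e)) k, k⟩

theorem Blk.conj (hM : Blk X M) (hM' : Blk X M') (h : MC p r X) : ∃ g : G, Tech.cj g M = M' := by
  haveI := Fact.mk h.rp
  obtain ⟨U, hU, -, k⟩ := hM.exists_sylow h
  obtain ⟨U', hU', l, -⟩ := hM'.exists_sylow h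
  obtain ⟨g, -, rfl⟩ := hU.exists_cj_eq hU'
  refine ⟨g, (hM.cj h.toFS g).eq_of_le hM' fun y hy hy' => l ?_⟩
  rw [NN, ← cj_normalizer, mem_cj]
  exact k _ (by simpa using h.conj y hy g⁻¹) (mem_cj.1 hy')

theorem MC.exists_blk_inv (h : MC p r X) (hx : x ∈ X) (hr : IsPGroup r N) (hn : x ∈ NN N) :
    ∃ M : Subgroup G, Blk X M ∧ x ∈ M ∧ N ≤ M := by
  haveI := Fact.mk h.rp
  obtain ⟨U, hU, l, n⟩ := h.exists_sylow hx hr hn
  obtain ⟨M, hM, -⟩ := h.exists_blk (blk_zp h hx)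
  obtain ⟨U', hU', l', -⟩ := hM.exists_sylow h
  obtain ⟨g, -, rfl⟩ := hU'.exists_cj_eq hU
  have k : NN (cj g U') ≤ cj g M := by rw [NN, ← cj_normalizer]; exact cj_mono g l'
  exact ⟨_, hM.cj h.toFS g, k n, l.trans (le_normalizer.trans k)⟩

theorem MC.exists_blk_pair (h : MC p r X) (hx : x ∈ X) (hy : y ∈ X) :
    ∃ M : Subgroup G, Blk X M ∧ x ∈ M ∧ y ∈ M := by
  obtain ⟨M, hM, m, l⟩ := h.exists_blk_inv hx (h.pg x hx y hy) (RR_norm x y)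
  exact ⟨M, hM, m, (mul_mem_cancel_left (inv_mem m)).1 (l (mem_RR x y))⟩

theorem Blk.exists_out (hM : Blk X M) (h : MC p r X) : ∃ y ∈ X, y ∉ M := by
  by_contra hn
  exact hM.ne (h.gen M fun y hy => by_contra fun hy' => hn ⟨y, hy, hy'⟩)

theorem Blk.mem_of_norm (hM : Blk X M) (h : MC p r X)
    (e : ∀ y ∈ X, y ∈ M → g * y * g⁻¹ ∈ M) : g ∈ M := by
  obtain ⟨x, hx, hx'⟩ := hM.exists_pt h
  exact hM.mx _ (blk_ne h hM.ne hx hx') (fun _ _ hy => blk_le h.toFS M hy) (blk_mem h.toFS e)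

theorem Blk.pt_C1 (hM : Blk X M) (h : MC p r X) (hz : z ∈ ZQ X M) (hy : y ∈ X) (hy' : y ∈ M) :
    y ∈ C1 z := mem_C1.2 ((h.at hM.ne hy hy').comm_of_Z hz).symm

theorem Blk.C1_le (hM : Blk X M) (h : MC p r X) (hz : z ∈ ZQ X M) (hz' : z ∉ center G) :
    C1 z ≤ M := hM.mx _ (C1_ne_top hz') fun _ => hM.pt_C1 h hz

theorem Blk.mem_of_br (hM : Blk X M) (h : MC p r X) (hz : z ∈ ZQ X M) (hz' : z ∉ center G)
    (e : br g z ∈ center G) : g ∈ M :=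
  hM.mem_of_norm h fun y hy hy' => hM.C1_le h hz hz' (mem_C1.2 (by
    have c := mem_C1.1 (hM.pt_C1 h hz hy hy')
    calc g * y * g⁻¹ * z = g * y * g⁻¹ * (br g z)⁻¹ * (g * z * g⁻¹) := by simp only [br]; group
      _ = (br g z)⁻¹ * g * (y * z) * g⁻¹ := by rw [mem_center_iff.1 (inv_mem e)]; group
      _ = _ := by rw [c]; simp only [br]; group))

theorem Blk.eq_of_Z (hM : Blk X M) (hM' : Blk X M') (h : MC p r X) (hz : z ∈ ZQ X M)
    (hz' : z ∈ ZQ X M') (hc : z ∉ center G) : M = M' :=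
  hM.eq_of_le hM' fun _ hy hy' => hM'.C1_le h hz' hc (hM.pt_C1 h hz hy hy')

theorem Blk.exists_Z (hM : Blk X M) (h : MC p r X) : ∃ z ∈ ZQ X M, z ∉ center G := by
  by_contra hn
  refine h.not_cent fun x hx y hy a ha b hb => ?_
  obtain ⟨M', hM', m, m'⟩ := h.exists_blk_pair hx hy
  obtain ⟨g, rfl⟩ := hM.conj hM' h
  have l := h.toFS.RR_le_QQ hx hy m m'
  have := (h.at hM'.ne hx m).br_mem (l ha) (l hb)
  rw [← h.toFS.cj_ZQ, mem_cj] at this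
  have c : g⁻¹ * br a b * g ∈ center G := by_contra fun c => hn ⟨_, this, c⟩
  simpa [mul_assoc] using (inferInstance : (center G).Normal).conj_mem _ c g

end CfsgLib.FsU
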