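import Mathlib
import Cfsg.Agent.Lib.Tech.SylowIn

/-! Vocabulary for conjugation invariant sets `X` of elements of odd prime order `p` any two of
which differ by an element of an invariant `r`-group (see plans/DTS2.md). -/

set_option autoImplicit false

namespace CfsgLib.FsU

open Subgroup CfsgLib.Tech

universe u

variable {G : Type u} [Group G]

/-- the normalizer -/
abbrev NN (T : Subgroup G) : Subgroup G := normalizer (T : Set G)

/-- the centralizer of one element -/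
abbrev C1 (x : G) : Subgroup G := centralizer ({x} : Set G)

/-- the commutator -/
abbrev br (a b : G) : G := a * b * a⁻¹ * b⁻¹

/-- `A` is abelian -/
def Ab (A : Subgroup G) : Prop := ∀ a ∈ A, ∀ b ∈ A, a * b = b * a

/-- the group generated by the conjugates of `x⁻¹ y` under the powers of `x` -/
def RR (x y : G) : Subgroup G := closure {g | ∃ i : ℕ, g = x ^ i * (x⁻¹ * y) * (x ^ i)⁻¹}

/-- the group generated by the quotients of the points of `H` -/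
def QQ (X : Set G) (H : Subgroup G) : Subgroup G :=
  closure {g | ∃ y ∈ X, ∃ z ∈ X, y ∈ H ∧ z ∈ H ∧ g = y⁻¹ * z}

/-- the centre of `QQ X H` -/
def ZQ (X : Set G) (H : Subgroup G) : Subgroup G := QQ X H ⊓ centralizer (QQ X H : Set G)

/-- an `F`-set -/
structure FS (p r : ℕ) (X : Set G) : Prop where
  pp : p.Prime
  p2 : p ≠ 2
  rp : r.Prime
  rne : r ≠ p
  ord : ∀ x ∈ X, orderOf x = p
  conj : ∀ x ∈ X, ∀ g : G, g * x * g⁻¹ ∈ X
  pg : ∀ x ∈ X, ∀ y ∈ X, IsPGroup r (RR x y)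

/-- an `F`-set with non-abelian lines -/
structure T2 (p r : ℕ) (X : Set G) : Prop extends FS p r X where
  nab : ∀ x ∈ X, ∀ y ∈ X, Ab (RR x y) → x = y

/-- a minimal counterexample -/
structure MC (p r : ℕ) (X : Set G) : Prop extends T2 p r X where
  gen : ∀ H : Subgroup G, (∀ x ∈ X, x ∈ H) → H = ⊤
  zr : IsPGroup r (center G)
  good : ∀ H : Subgroup G, H ≠ ⊤ → IsPGroup r (QQ X H)
  bad : ¬ IsPGroup r (QQ X ⊤)

/-- a good subgroup `H` with a point `x` -/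
structure At (p r : ℕ) (X : Set G) (H : Subgroup G) (x : G) : Prop where
  t2 : T2 p r X
  pg : IsPGroup r (QQ X H)
  mem : x ∈ X
  memH : x ∈ H

/-- the stabilizer of a block -/
structure Blk (X : Set G) (M : Subgroup G) : Prop where
  ne : M ≠ ⊤
  mx : ∀ K : Subgroup G, K ≠ ⊤ → (∀ x ∈ X, x ∈ M → x ∈ K) → K ≤ M

variable {p r : ℕ} {X : Set G} {H K M : Subgroup G} {x y z g u : G}

theorem mem_C1 : g ∈ C1 x ↔ g * x = x * g := mem_centralizer_singleton_iff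

theorem mem_ZQ : u ∈ ZQ X H ↔ u ∈ QQ X H ∧ ∀ v ∈ QQ X H, v * u = u * v := by
  simp [ZQ, mem_centralizer_iff]

theorem ZQ_le (X : Set G) (H : Subgroup G) : ZQ X H ≤ QQ X H := inf_le_left

theorem ab_ZQ (X : Set G) (H : Subgroup G) : Ab (ZQ X H) :=
  fun _ ha _ hb => (mem_ZQ.1 hb).2 _ (ZQ_le X H ha)

theorem mem_QQ (hy : y ∈ X) (hz : z ∈ X) (hy' : y ∈ H) (hz' : z ∈ H) : y⁻¹ * z ∈ QQ X H :=
  subset_closure ⟨y, hy, z, hz, hy', hz', rfl⟩

theorem QQ_le_iff : QQ X H ≤ K ↔ ∀ y ∈ X, ∀ z ∈ X, y ∈ H → z ∈ H → y⁻¹ * z ∈ K := by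
  rw [QQ, closure_le]
  exact ⟨fun h y hy z hz hy' hz' => h ⟨y, hy, z, hz, hy', hz', rfl⟩,
    by rintro h _ ⟨y, hy, z, hz, hy', hz', rfl⟩; exact h y hy z hz hy' hz'⟩

theorem QQ_le (X : Set G) (H : Subgroup G) : QQ X H ≤ H :=
  QQ_le_iff.2 fun _ _ _ _ hy hz => H.mul_mem (H.inv_mem hy) hz

theorem QQ_mono (h : ∀ y ∈ X, y ∈ H → y ∈ K) : QQ X H ≤ QQ X K :=
  QQ_le_iff.2 fun y hy z hz hy' hz' => mem_QQ hy hz (h y hy hy') (h z hz hz')

theorem QQ_le_of_pt (hx : x ∈ X) (hx' : x ∈ H) (h : ∀ y ∈ X, y ∈ H → x⁻¹ * y ∈ K) :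
    QQ X H ≤ K :=
  QQ_le_iff.2 fun y hy z hz hy' hz' => by
    have := K.mul_mem (K.inv_mem (h y hy hy')) (h z hz hz')
    have _ := h x hx hx'
    simpa [mul_assoc] using this

theorem mem_RR (x y : G) : x⁻¹ * y ∈ RR x y := subset_closure ⟨0, by simp⟩

theorem RR_le (hx : x ∈ NN K) (h : x⁻¹ * y ∈ K) : RR x y ≤ K := by
  rw [RR, closure_le]
  rintro _ ⟨i, rfl⟩
  exact conj_mem_of_mem_normalizer ((NN K).pow_mem hx i) h

theorem RR_norm [Finite G] (x y : G) : x ∈ NN (RR x y) := by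
  refine mem_normalizer_of_cj_le ?_
  rw [RR, cj, MonoidHom.map_closure, closure_le]
  rintro _ ⟨_, ⟨i, rfl⟩, rfl⟩
  exact subset_closure ⟨i + 1, by simp [pow_succ', mul_assoc]⟩

theorem map_RR {L : Type*} [Group L] (f : G →* L) (x y : G) :
    (RR x y).map f = RR (f x) (f y) := by
  rw [RR, RR, MonoidHom.map_closure]
  congr 1
  ext a
  constructor
  · rintro ⟨_, ⟨i, rfl⟩, rfl⟩
    exact ⟨i, by simp⟩
  · rintro ⟨i, rfl⟩
    exact ⟨_, ⟨i, rfl⟩, by simp⟩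

theorem FS.cj_QQ (h : FS p r X) (g : G) (H : Subgroup G) : cj g (QQ X H) = QQ X (cj g H) := by
  have key : ∀ (g : G) (H : Subgroup G), cj g (QQ X H) ≤ QQ X (cj g H) := by
    intro g H
    rw [← cj_le_cj_iff g⁻¹, cj_inv_cj, QQ_le_iff]
    intro y hy z hz hy' hz'
    rw [mem_cj]
    have := mem_QQ (h.conj y hy g) (h.conj z hz g) (conj_mem_cj.2 hy') (conj_mem_cj.2 hz')
    simpa [mul_assoc] using this
  refine le_antisymm (key g H) ?_
  have := cj_mono g (key g⁻¹ (cj g H))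
  rwa [cj_cj_inv, cj_inv_cj] at this

theorem FS.cj_ZQ (h : FS p r X) (g : G) (H : Subgroup G) : cj g (ZQ X H) = ZQ X (cj g H) := by
  rw [ZQ, ZQ, cj_inf, cj_centralizer, h.cj_QQ]

theorem FS.NN_QQ (h : FS p r X) (hg : g ∈ NN H) : g ∈ NN (QQ X H) := by
  rw [mem_normalizer_iff_cj] at hg ⊢
  rw [h.cj_QQ, hg]

theorem FS.NN_ZQ (h : FS p r X) (hg : g ∈ NN H) : g ∈ NN (ZQ X H) := by
  rw [mem_normalizer_iff_cj] at hg ⊢
  rw [h.cj_ZQ, hg]

theorem FS.QQ_norm (h : FS p r X) (hg : g ∈ H) : g ∈ NN (QQ X H) := h.NN_QQ (le_normalizer hg)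

theorem FS.ZQ_norm (h : FS p r X) (hg : g ∈ H) : g ∈ NN (ZQ X H) := h.NN_ZQ (le_normalizer hg)

theorem FS.QQ_conj (h : FS p r X) (hg : g ∈ H) (hu : u ∈ QQ X H) : g * u * g⁻¹ ∈ QQ X H :=
  conj_mem_of_mem_normalizer (h.QQ_norm hg) hu

theorem FS.ZQ_conj (h : FS p r X) (hg : g ∈ H) (hu : u ∈ ZQ X H) : g * u * g⁻¹ ∈ ZQ X H :=
  conj_mem_of_mem_normalizer (h.ZQ_norm hg) hu

theorem FS.QQ_top_normal (h : FS p r X) : (QQ X ⊤).Normal :=
  ⟨fun _ hu _ => h.QQ_conj (mem_top _) hu⟩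

theorem FS.RR_le_QQ (h : FS p r X) (hx : x ∈ X) (hy : y ∈ X) (hx' : x ∈ H) (hy' : y ∈ H) :
    RR x y ≤ QQ X H :=
  RR_le (h.QQ_norm hx') (mem_QQ hx hy hx' hy')

theorem FS.pow_eq_one (h : FS p r X) (hx : x ∈ X) : x ^ p = 1 := by
  rw [← h.ord x hx, pow_orderOf_eq_one]

theorem At.fs (A : At p r X H x) : FS p r X := A.t2.toFS

theorem At.of_mem (A : At p r X H x) (hy : y ∈ X) (hy' : y ∈ H) : At p r X H y :=
  ⟨A.t2, A.pg, hy, hy'⟩

theorem MC.at (h : MC p r X) (hH : H ≠ ⊤) (hx : x ∈ X) (hx' : x ∈ H) : At p r X H x :=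
  ⟨h.toT2, h.good H hH, hx, hx'⟩

theorem MC.ne_top (h : MC p r X) (hH : IsPGroup r (QQ X H)) : H ≠ ⊤ := by
  rintro rfl
  exact h.bad hH

theorem Blk.eq_of_le {M' : Subgroup G} (hM : Blk X M) (hM' : Blk X M')
    (h : ∀ x ∈ X, x ∈ M → x ∈ M') : M = M' :=
  have h1 : M' ≤ M := hM.mx M' hM'.ne h
  le_antisymm (hM'.mx M hM.ne fun _ _ hx => h1 hx) h1

end CfsgLib.FsU
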