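import Cfsg.Agent.Lib.FsU.Defs

set_option autoImplicit false
set_option linter.unusedSectionVars false

namespace CfsgLib.FsU

open Subgroup CfsgLib.Tech

universe u

variable {G : Type u} [Group G] [Finite G] {p r : ℕ} {X : Set G} {H K M M' N : Subgroup G}
  {x y z g t u v : G}

theorem ring_exp {R : Type*} [Ring R] {a b c i : R} (hi : i * (1 + a) = 1) (ab : a * a * b = a * b * b)
    (bab : b * a * b = b * b * b) (bcb : b * c * b = b * b * b) (aca : a * c * a = a * a * a)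
    (h : b * ((1 + a) * (1 + c) * i - (1 + b)) * b = 0) :
    b * a * c * b * (1 + b) - b * c * a * b = b * b * b * b * b := by
  have e : i * (b * (1 + b)) = b * (1 + b) - a * b := by
    linear_combination (norm := noncomm_ring) hi * (b * (1 + b) - a * b) + i * ab
  linear_combination (norm := noncomm_ring) h * (1 + b) - b * (1 + a) * (1 + c) * e - bab * b
    - bcb * (1 + b) + b * ab + bab * b + b * aca * b + b * a * ab + b * ab * b + bab * b * b

theorem ring_canc {R : Type*} [Ring R] {s : R} {n : ℕ} (hs : s ^ n = 1)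
    (ht : ∀ a : R, (n : R) * a = 0 → a = 0) {C : R} :
    (C * (s - 1) * (s - 1) = 0 → C * (s - 1) = 0) ∧ ((s - 1) * ((s - 1) * C) = 0 → (s - 1) * C = 0) := by
  have k : ∀ m : ℕ, ∃ h : R, Commute h (s - 1) ∧ s ^ m - 1 = m * (s - 1) + h * (s - 1) * (s - 1) := by
    intro m
    induction m with
    | zero => exact ⟨0, Commute.zero_left _, by simp⟩
    | succ m ih =>
      obtain ⟨h, c, e⟩ := ih
      refine ⟨m + h * s, ((Nat.cast_commute m _).add_left (c.mul_left
        ((Commute.refl s).sub_right (Commute.one_right s)))), ?_⟩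
      push_cast
      linear_combination (norm := noncomm_ring) e * s
  obtain ⟨h, c, e⟩ := k n
  rw [hs, sub_self] at e
  generalize s - 1 = f at *
  refine ⟨fun q => ht _ ?_, fun q => ht _ ?_⟩
  · rw [← mul_assoc, (Nat.cast_commute n C).eq]
    linear_combination (norm := noncomm_ring) - C * e - q * h - C * c.eq * f - C * f * c.eq
  · linear_combination (norm := noncomm_ring) - e * C - h * q

theorem ring_lemma {L R : Type*} [Group L] [Ring R] (φ : L →* R) {Y : Set L} {n : ℕ} (hn : Odd n)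
    (hc : ∀ x ∈ Y, ∀ z ∈ Y, x * z * x⁻¹ ∈ Y) (ho : ∀ x ∈ Y, x ^ n = 1)
    (ht : ∀ a : R, (n : R) * a = 0 → a = 0)
    (h1 : ∀ x ∈ Y, ∀ y ∈ Y, (φ x - 1) * (φ y - φ x) * (φ x - 1) = 0)
    (h2 : ∀ x ∈ Y, ∀ y ∈ Y, (φ y - 1) * (φ y - φ x) * (φ x - 1) = 0)
    {x y z : L} (hx : x ∈ Y) (hy : y ∈ Y) (hz : z ∈ Y) :
    (φ z - 1) * (φ y - φ x) * (φ x - 1) = 0 := by
  have a1 : ∀ x ∈ Y, ∀ y ∈ Y, (φ x - 1) * (φ y - 1) * (φ x - 1) = (φ x - 1) * (φ x - 1) * (φ x - 1) :=
    fun x hx y hy => by linear_combination (norm := noncomm_ring) h1 x hx y hy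
  have a2 : ∀ x ∈ Y, ∀ y ∈ Y, (φ x - 1) * (φ x - 1) * (φ y - 1) = (φ x - 1) * (φ y - 1) * (φ y - 1) :=
    fun x hx y hy => by linear_combination (norm := noncomm_ring) h2 y hy x hx
  have cn := fun x hx (C : R) => ring_canc (s := φ x) (C := C) (by rw [← map_pow, ho x hx, map_one]) ht
  have a3 := fun x (hx : x ∈ Y) y (hy : y ∈ Y) z (hz : z ∈ Y) => ring_exp (i := φ x⁻¹)
    (by rw [add_sub_cancel, ← map_mul, inv_mul_cancel, map_one]) (a2 x hx y hy) (a1 y hy x hx)
    (a1 y hy z hz) (a1 x hx z hz) (by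
      simpa only [add_sub_cancel, ← map_mul] using h1 y hy _ (hc x hx z hz))
  have a4 : ∀ x ∈ Y, ∀ y ∈ Y, ∀ z ∈ Y, (φ y - 1) * (φ x - 1) * (φ z - 1) * (φ y - 1) =
      (φ y - 1) * (φ y - 1) * (φ y - 1) * (φ y - 1) := fun x hx y hy z hz => by
    obtain ⟨k, rfl⟩ := hn
    have e : φ y - 1 = (φ y * φ y - 1) * ∑ i ∈ Finset.range (k + 1), (φ y * φ y) ^ i := by
      rw [mul_geom_sum, ← map_mul, ← map_pow, ← sq, ← pow_mul, mul_add, mul_one, pow_succ, ho y hy, one_mul]
    have e2 : (((φ y - 1) * (φ x - 1) * (φ z - 1) - (φ y - 1) * (φ y - 1) * (φ y - 1)) * (φ y - 1)) *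
        (φ y * φ y - 1) = 0 := by
      linear_combination (norm := noncomm_ring) a3 x hx y hy z hz * φ y + a3 z hz y hy x hx
    have := (cn y hy ((φ y - 1) * (φ x - 1) * (φ z - 1) - (φ y - 1) * (φ y - 1) * (φ y - 1))).1 (by
      nth_rw 6 [e]
      rw [← mul_assoc, e2, zero_mul])
    linear_combination (norm := noncomm_ring) this
  have b1 := a4 z hz x hx y hy
  have b2 := a4 z hz x hx z hz
  have b3 := a1 z hz x hx
  have b4 := a2 z hz x hx
  have b5 := a2 y hy x hx
  have b6 := a2 z hz y hy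
  have c := fun C => (cn z hz C).2
  rw [show φ y - φ x = φ y - 1 - (φ x - 1) by abel]
  generalize φ x - 1 = a at *
  generalize φ y - 1 = b at *
  generalize φ z - 1 = d at *
  have := c ((b - d) * a) (c _ (c _ (by
    linear_combination (norm := noncomm_ring) - b3 * (d * (b - d) * a) + d * (b1 - b2) * a
      + d * a * (d * b5 + b6 * a - d * b4))))
  linear_combination (norm := noncomm_ring) this + b4

theorem ring_grp {L : Type u} [Group L] {W : Subgroup L} (hW : W.Normal) (hab : Ab W) {Y : Set L}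
    {n : ℕ} (hn : Odd n) (hc : ∀ x ∈ Y, ∀ z ∈ Y, x * z * x⁻¹ ∈ Y) (ho : ∀ x ∈ Y, x ^ n = 1)
    (ht : ∀ w ∈ W, w ^ n = 1 → w = 1)
    (h : ∀ x ∈ Y, ∀ y ∈ Y, ∀ v ∈ W, Commute (br (x⁻¹ * y) (br x v)) x ∧
      Commute (br (x⁻¹ * y) (br x v)) y)
    {x y z v : L} (hx : x ∈ Y) (hy : y ∈ Y) (hz : z ∈ Y) (hv : v ∈ W) :
    Commute (br (x⁻¹ * y) (br x v)) z := by
  letI : CommGroup W := { (inferInstance : Group W) with
    mul_comm := fun a b => Subtype.ext (hab a a.2 b b.2) }
  let φ : L →* AddMonoid.End (Additive W) :=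
    { toFun := fun g => MonoidHom.toAdditive (MulAut.conjNormal g).toMonoidHom
      map_one' := DFunLike.ext _ _ fun w => Subtype.ext (show 1 * (w.toMul : L) * 1⁻¹ = w.toMul by simp)
      map_mul' := fun a b => DFunLike.ext _ _ fun w => Subtype.ext
        (show a * b * (w.toMul : L) * (a * b)⁻¹ = a * (b * w.toMul * b⁻¹) * a⁻¹ by group) }
  have ap : ∀ g w, ((φ g w).toMul : L) = g * w.toMul * g⁻¹ := fun g w => rfl
  have sb : ∀ g w, (((φ g - 1) w).toMul : L) = br g w.toMul := fun g w => by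
    rw [show (φ g - 1) w = φ g w - w from rfl, toMul_sub, coe_div, ap, div_eq_mul_inv]
  have key : ∀ x ∈ Y, ∀ y ∈ Y, ∀ z w, ((φ z - 1) * (φ y - φ x) * (φ x - 1)) w = 0 ↔
      Commute (br (x⁻¹ * y) (br x w.toMul)) z := fun x hx y hy z w => by
    rw [show φ y - φ x = φ x * (φ (x⁻¹ * y) - 1) by rw [mul_sub, ← map_mul, mul_inv_cancel_left, mul_one],
      ← toMul_eq_one, Subtype.ext_iff]
    simp only [AddMonoid.End.coe_mul, Function.comp_apply, sb, ap]
    rw [← (h x hx y hy _ w.toMul.2).1.eq, mul_inv_cancel_right, OneMemClass.coe_one, br, mul_inv_eq_one,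
      mul_inv_eq_iff_eq_mul]
    exact ⟨fun e => e.symm, fun e => e.eq.symm⟩
  refine (key x hx y hy z (Additive.ofMul ⟨v, hv⟩)).1 ?_
  rw [ring_lemma φ hn hc ho (fun a ha => ?_) (fun x hx y hy => ?_) (fun x hx y hy => ?_) hx hy hz]
  · rfl
  · ext w
    have := DFunLike.congr_fun ha w
    rw [AddMonoid.End.coe_mul, Function.comp_apply, AddMonoid.End.natCast_apply] at this
    exact ht _ (a w).toMul.2 (congrArg (fun u : Additive W => (u.toMul : L)) this)
  · exact DFunLike.ext _ _ fun w => (key x hx y hy x w).2 (h x hx y hy _ w.toMul.2).1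
  · exact DFunLike.ext _ _ fun w => (key x hx y hy y w).2 (h x hx y hy _ w.toMul.2).2

end CfsgLib.FsU
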