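import Cfsg.Agent.Lib.FsU.Aff
import Cfsg.Agent.Lib.FsU.Ring

set_option autoImplicit false
set_option linter.unusedSectionVars false

namespace CfsgLib.FsU

open Subgroup CfsgLib.Tech

universe u

variable {G : Type u} [Group G] [Finite G] {p r : ℕ} {X : Set G} {H K M M' N : Subgroup G}
  {x y z g t u v : G}

theorem hol_br_iff {a b : G} : br a b ∈ center G ↔
    QuotientGroup.mk' (center G) a * QuotientGroup.mk' (center G) b =
      QuotientGroup.mk' (center G) b * QuotientGroup.mk' (center G) a := by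
  rw [← QuotientGroup.eq_one_iff, ← mul_inv_eq_one (a := _ * _)]
  simp [br, mul_assoc]

theorem hol_NN (hN : N.Normal) (g : G) : g ∈ NN N := by
  rw [NN, normalizer_eq_top]; trivial

theorem MC.pre_nc (h : MC p r X) (hN : N.Normal) (hx : x ∈ X) (hne : N ⊔ zpowers x ≠ ⊤) :
    ∃ O : Subgroup G, O.Normal ∧ IsPGroup r O ∧ ∀ n ∈ N, ∀ g : G, br n g ∈ O := by
  have hch := Core.pCore_characteristic r G
  have hO : (Cfsg.pCore r G).Normal := inferInstance
  refine ⟨Cfsg.pCore r G, hO, Core.isPGroup_pCore r G, ?_⟩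
  let S : Subgroup G :=
    { carrier := {g | ∀ n ∈ N, br n g ∈ Cfsg.pCore r G}
      one_mem' := fun n _ => by simp [br]
      mul_mem' := fun {a b} ha hb n hn => by
        have := mul_mem (ha n hn) (hO.conj_mem _ (hb n hn) a)
        convert this using 1
        simp only [br]; group
      inv_mem' := fun {a} ha n hn => by
        have := hO.conj_mem _ (inv_mem (ha n hn)) a⁻¹
        convert this using 1
        simp only [br]; group }
  have hS : S = ⊤ := h.gen S fun y hy n hn => by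
    obtain ⟨u, -, e⟩ := h.toFS.exists_conj hx hy
    have h1 : N ⊔ zpowers y ≠ ⊤ := by
      intro c
      apply hne
      apply cj_injective u
      rw [cj_sup, cj_zpowers, cj_eq_of_normal, ← e, c, cj_top]
    have h2 : QQ X (N ⊔ zpowers y) ⊓ N ≤ (Cfsg.pCore r N).map N.subtype :=
      Core.le_map_pCore inf_le_right (fun a ha => mem_normalizer_of_forall fun w hw =>
        ⟨h.toFS.QQ_conj (mem_sup_left ha) hw.1, hN.conj_mem _ hw.2 a⟩)
        (h.good _ h1).to_inf_left
    refine Core.map_pCore_le_of_normal N (h2 (mem_inf.2 ⟨?_, ?_⟩))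
    · have hy' : y ∈ N ⊔ zpowers y := mem_sup_right (mem_zpowers y)
      have := h.toFS.QQ_conj hy' (mem_QQ hy (h.conj y hy n) hy'
        (mul_mem (mul_mem (mem_sup_left hn) hy') (inv_mem (mem_sup_left hn))))
      convert this using 1
      simp only [br]; group
    · have := N.mul_mem hn (hN.conj_mem _ (N.inv_mem hn) y)
      convert this using 1
      simp only [br]; group
  intro n hn g
  exact (hS.ge (mem_top g)) n hn

theorem MC.hol_step (h : MC p r X) {V : Subgroup G} (hV : V.Normal) (hr : IsPGroup r V)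
    (hab : ∀ a ∈ V, ∀ b ∈ V, br a b ∈ center G) (hx : x ∈ X) (hy : y ∈ X) (hv : v ∈ V) :
    br (x⁻¹ * y) (br x v) ∈ center G := by
  have key : ∀ x ∈ X, ∀ y ∈ X, ∀ v ∈ V, Commute (br (x⁻¹ * y) (br x v)) x ∧
      Commute (br (x⁻¹ * y) (br x v)) y := by
    intro x hx y hy v hv
    have hn : x ∈ NN (V ⊔ RR x y) :=
      Core.normalizer_inf_le_normalizer_sup _ _ ⟨hol_NN hV x, RR_norm x y⟩
    have hp : IsPGroup r (V ⊔ RR x y : Subgroup G) := hr.to_sup_of_normal_left (h.pg x hx y hy)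
    have hx' : x ∈ (V ⊔ RR x y) ⊔ zpowers x := mem_sup_right (mem_zpowers x)
    have hv' : v ∈ (V ⊔ RR x y) ⊔ zpowers x := mem_sup_left (mem_sup_left hv)
    have hy' : y ∈ (V ⊔ RR x y) ⊔ zpowers x := by
      have := mul_mem hx' (mem_sup_left (mem_sup_right (mem_RR x y)))
      rwa [mul_inv_cancel_left] at this
    have A : At p r X ((V ⊔ RR x y) ⊔ zpowers x) x :=
      ⟨h.toT2, hp.to_le (h.toFS.QQ_le_of_norm hx hn), hx, hx'⟩
    have h1 : br x v ∈ QQ X ((V ⊔ RR x y) ⊔ zpowers x) := by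
      have := h.toFS.QQ_conj hx' (mem_QQ (h.conj x hx v) hx
        (mul_mem (mul_mem hv' hx') (inv_mem hv')) hx')
      convert this using 1
      simp only [br]; group
    have h2 := A.br_mem (mem_QQ hx hy hx' hy') h1
    exact ⟨A.comm_of_Z h2, (A.of_mem hy hy').comm_of_Z h2⟩
  refine h.mem_center' fun z hz => hol_br_iff.2 ?_
  set π := QuotientGroup.mk' (center G) with hπ
  have hbr : ∀ a b c : G, π (br (a⁻¹ * b) (br a c)) = br ((π a)⁻¹ * π b) (br (π a) (π c)) := by
    intro a b c; simp only [br, map_mul, map_inv]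
  rw [hbr]
  refine ring_grp (W := V.map π) (Y := π '' X) (n := p)
    (hV.map π (QuotientGroup.mk'_surjective _)) ?_ (h.pp.odd_of_ne_two h.p2) ?_ ?_ ?_ ?_
    ⟨x, hx, rfl⟩ ⟨y, hy, rfl⟩ ⟨z, hz, rfl⟩ (mem_map_of_mem π hv)
  · rintro _ ⟨a, ha, rfl⟩ _ ⟨b, hb, rfl⟩
    exact hol_br_iff.1 (hab a ha b hb)
  · rintro _ ⟨a, ha, rfl⟩ _ ⟨b, hb, rfl⟩
    exact ⟨_, h.conj b hb a, by simp only [map_mul, map_inv]⟩
  · rintro _ ⟨a, ha, rfl⟩
    rw [← map_pow, h.toFS.pow_eq_one ha, map_one]
  · intro w hw e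
    obtain ⟨k, hk⟩ := isPGroup_iff_mem.1 (hr.map π) w hw
    exact ba_eq_one (a := 1) h.pp h.rp h.rne (by rw [pow_one, e]) hk
  · rintro _ ⟨a, ha, rfl⟩ _ ⟨b, hb, rfl⟩ _ ⟨c, hc, rfl⟩
    rw [← hbr]
    exact ⟨(key a ha b hb c hc).1.map π, (key a ha b hb c hc).2.map π⟩

theorem MC.hol_end (h : MC p r X) {V : Subgroup G} (hV : V.Normal)
    (e : ∀ v ∈ V, ∀ g ∈ QQ X ⊤, br g v ∈ center G) : V ≤ center G := by
  have : Fact r.Prime := ⟨h.rp⟩
  have hQ := h.toFS.QQ_top_normal
  have hC : (QQ X ⊤ ⊓ centralizer (V : Set G)).Normal := inferInstance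
  obtain ⟨x, hx, -⟩ := h.exists_ne 1
  by_cases hne : (QQ X ⊤ ⊓ centralizer (V : Set G)) ⊔ zpowers x = ⊤
  · have h1 := h.toFS.QQ_le_of_norm hx (hol_NN hC x)
    rw [hne] at h1
    refine h.le_center hV hx fun v hv => ?_
    have h2 := h.toT2.eq_of_ab (A := V ⊓ QQ X ⊤)
      (fun a ha b hb => mem_centralizer_iff.1 (h1 hb.2).2 a ha.1) hx
      (hol_NN inferInstance x) (h.conj x hx v) (mem_inf.2 ⟨by
        have := V.mul_mem (hV.conj_mem _ hv x⁻¹) (V.inv_mem hv)
        convert this using 1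
        group, mem_QQ hx (h.conj x hx v) (mem_top _) (mem_top _)⟩)
    rw [br, ← h2, mul_inv_cancel]
    exact one_mem _
  · obtain ⟨O, hO, hO', hb⟩ := h.pre_nc hC hx hne
    obtain ⟨a, ha⟩ := IsPGroup.iff_card.1 h.zr
    refine (h.bad (pg_of_gen' h.rp hO hO' (fun n hn k _ => hb n hn k) (fun k hk => ⟨a,
      pow_mem hk _, mem_centralizer_iff.2 fun v hv => ?_⟩) (h.toFS.QQ_gen ⊤))).elim
    have hz := e v hv k hk
    have h1 : ∀ m : ℕ, br (k ^ m) v = br k v ^ m := by
      intro m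
      induction m with
      | zero => simp [br]
      | succ m ih =>
        have h2 := mem_center_iff.1 (pow_mem hz m) k
        calc br (k ^ (m + 1)) v = k * br (k ^ m) v * k⁻¹ * br k v := by
              simp only [br]; rw [pow_succ']; group
          _ = br k v ^ (m + 1) := by rw [ih, h2, pow_succ]; group
    have h2 : br k v ^ r ^ a = 1 := by
      have := pow_card_eq_one' (x := (⟨_, hz⟩ : center G))
      rw [ha] at this
      exact congrArg Subtype.val this
    have h3 := h1 (r ^ a)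
    rw [h2, br, mul_inv_eq_one, mul_inv_eq_iff_eq_mul] at h3
    exact h3.symm

/-- `O_r(G) ≤ Z(G)` -/
theorem MC.hol (h : MC p r X) (hN : N.Normal) (hr : IsPGroup r N) : N ≤ center G := by
  have : Fact r.Prime := ⟨h.rp⟩
  induction hc : Nat.card N using Nat.strong_induction_on generalizing N with
  | _ n ih =>
  by_cases hb : N = ⊥
  · rw [hb]; exact bot_le
  have hlt : ⁅N, N⁆ < N := by
    have := hr.isNilpotent
    have : Nontrivial N := (nontrivial_iff_ne_bot N).2 hb
    have h1 : commutator N < ⊤ := Group.IsSolvable.commutator_lt_top_of_nontrivial N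
    rw [← Subgroup.map_subtype_commutator]
    have h2 := (map_lt_map_iff_of_injective N.subtype_injective).2 h1
    rwa [← MonoidHom.range_eq_map, range_subtype] at h2
  have h1 : ⁅N, N⁆ ≤ center G :=
    ih _ (hc ▸ Core.card_lt_of_lt hlt) inferInstance (hr.to_le hlt.le) rfl
  have hab : ∀ a ∈ N, ∀ b ∈ N, br a b ∈ center G := fun a ha b hb =>
    h1 (commutator_mem_commutator ha hb)
  obtain ⟨x, hx, -⟩ := h.exists_ne 1
  set π := QuotientGroup.mk' (center G) with hπ
  have hQ : ((QQ X ⊤).map π).Normal :=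
    h.toFS.QQ_top_normal.map π (QuotientGroup.mk'_surjective _)
  have h2 := h.hol_end (V := (centralizer ((QQ X ⊤).map π : Set (G ⧸ center G))).comap π)
    inferInstance fun v hv g hg => hol_br_iff.2
      (mem_centralizer_iff.1 (mem_comap.1 hv) _ (mem_map_of_mem π hg))
  refine h.le_center hN hx fun v hv => ?_
  have h3 : QQ X ⊤ ≤ (C1 (π (br x v))).comap π :=
    QQ_le_of_pt hx (mem_top _) fun y hy _ => mem_comap.2 (mem_C1.2
      (hol_br_iff.1 (h.hol_step hN hr hab hx hy hv)))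
  have h4 : br x v ∈ center G := h2 (mem_comap.2 (mem_centralizer_iff.2 (by
    rintro _ ⟨g, hg, rfl⟩
    exact mem_C1.1 (mem_comap.1 (h3 hg)))))
  have := inv_mem h4
  convert this using 1
  simp only [br]; group

theorem MC.nc (h : MC p r X) (hN : N.Normal) : N ≤ center G ∨ QQ X ⊤ ≤ N := by
  obtain ⟨x, hx, -⟩ := h.exists_ne 1
  by_cases hne : N ⊔ zpowers x = ⊤
  · right
    have h1 := h.toFS.QQ_le_of_norm hx (hol_NN hN x)
    rwa [hne] at h1
  · left
    obtain ⟨O, hO, hO', hb⟩ := h.pre_nc hN hx hne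
    exact fun n hn => h.mem_center' fun y _ => h.hol hO hO' (hb n hn y)

theorem MC.NN_ne (h : MC p r X) (hr : IsPGroup r N) (hn : ¬ N ≤ center G) : NN N ≠ ⊤ := by
  intro e
  exact hn (h.hol (normalizer_eq_top_iff.1 e) hr)

end CfsgLib.FsU
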