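import Cfsg.Agent.Lib.FsU.Aff

set_option autoImplicit false
set_option linter.unusedSectionVars false

namespace CfsgLib.FsU

open Subgroup CfsgLib.Tech

universe u

variable {G : Type u} [Group G] [Finite G] {p r : ℕ} {X : Set G} {H K M M' N : Subgroup G}
  {x y z g t u v : G}

theorem mid_NN (ht : t * t = 1) (z : G) : t ∈ NN (RR z (t * z * t⁻¹) ⊔ zpowers z) := by
  refine mem_normalizer_of_cj_le ?_
  have hz : z ∈ RR z (t * z * t⁻¹) ⊔ zpowers z := mem_sup_right (mem_zpowers z)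
  have hz' : t * z * t⁻¹ ∈ RR z (t * z * t⁻¹) ⊔ zpowers z := by
    have := mul_mem hz (mem_sup_left (mem_RR z (t * z * t⁻¹)))
    rwa [mul_inv_cancel_left] at this
  rw [← cj_le_cj_iff t⁻¹, cj_inv_cj]
  have h1 : z ∈ cj t⁻¹ (RR z (t * z * t⁻¹) ⊔ zpowers z) := by
    rw [mem_cj, inv_inv]; exact hz'
  have h2 : t * z * t⁻¹ ∈ cj t⁻¹ (RR z (t * z * t⁻¹) ⊔ zpowers z) := by
    rw [mem_cj, inv_inv]
    have e : t * (t * z * t⁻¹) * t⁻¹ = (t * t) * z * (t * t)⁻¹ := by group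
    rw [e, ht, one_mul, inv_one, mul_one]
    exact hz
  exact sup_le (RR_le (le_normalizer h1) (mul_mem (inv_mem h1) h2)) (zpowers_le.2 h1)

/-- `t` inverts `Q / Z` -/
theorem mid_inv (ht : t * t = 1) (A : At p r X H z) (hz' : t * z * t⁻¹ ∈ H)
    (hQ : QQ X H = RR z (t * z * t⁻¹)) (hn : t ∈ NN H) :
    ∀ u ∈ QQ X H, t * u * t⁻¹ * u ∈ ZQ X H := by
  have hc : ∀ u ∈ QQ X H, t * u * t⁻¹ ∈ QQ X H := fun u hu =>
    conj_mem_of_mem_normalizer (A.fs.NN_QQ hn) hu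
  let S : Subgroup G :=
    { carrier := {u | u ∈ QQ X H ∧ t * u * t⁻¹ * u ∈ ZQ X H}
      one_mem' := ⟨one_mem _, by simp⟩
      mul_mem' := fun {a b} ha hb => ⟨mul_mem ha.1 hb.1, by
        have := mul_mem (mul_mem (A.fs.ZQ_conj (QQ_le _ _ (hc a ha.1))
          (A.br_mem (hc b hb.1) ha.1)) ha.2) hb.2
        convert this using 1
        simp only [br]; group⟩
      inv_mem' := fun {a} ha => ⟨inv_mem ha.1, by
        have := inv_mem (A.fs.ZQ_conj (QQ_le _ _ ha.1) ha.2)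
        convert this using 1
        group⟩ }
  have hcQ := mem_QQ A.mem (A.fs.conj z A.mem t) A.memH hz'
  have h1 : z ∈ NN S := mem_normalizer_of_forall fun u hu => ⟨A.fs.QQ_conj A.memH hu.1, by
    have := A.fs.ZQ_conj A.memH (mul_mem (A.br_mem hcQ (hc u hu.1)) hu.2)
    convert this using 1
    simp only [br]; group⟩
  have h2 : z⁻¹ * (t * z * t⁻¹) ∈ S := ⟨hcQ, by
    have e : t * (z⁻¹ * (t * z * t⁻¹)) * t⁻¹ * (z⁻¹ * (t * z * t⁻¹)) =
      t * z⁻¹ * t * z * (t * t)⁻¹ * z⁻¹ * t * z * t⁻¹ := by group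
    have e' : t * z⁻¹ * t * z * 1⁻¹ * z⁻¹ * t * z * t⁻¹ = t * z⁻¹ * (t * t) * z * t⁻¹ := by group
    rw [e, ht, e', ht]
    simp⟩
  intro u hu
  rw [hQ] at hu
  exact (RR_le h1 h2 hu).2

theorem mid_pt (hr : r ≠ 2) (ht : t * t = 1) (A : At p r X H z) (hz' : t * z * t⁻¹ ∈ H)
    (hQ : QQ X H = RR z (t * z * t⁻¹)) (hn : t ∈ NN H) : ∃ m ∈ X, m ∈ H ∧ t * m = m * t := by
  obtain ⟨w, hw, e⟩ := A.exists_conj (A.fs.conj z A.mem t) hz'
  obtain ⟨k, hk⟩ := isPGroup_iff_mem.1 A.pg w hw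
  obtain ⟨j, hj⟩ : Odd (r ^ k) := (A.fs.rp.odd_of_ne_two hr).pow
  obtain ⟨s, hs, e1⟩ : ∃ s ∈ QQ X H, w = s * s := by
    refine ⟨w ^ (j + 1), pow_mem hw _, ?_⟩
    rw [← pow_add, show j + 1 + (j + 1) = r ^ k + 1 by omega, pow_succ, hk, one_mul]
  have hsH := QQ_le _ _ hs
  have hm := A.fs.conj z A.mem s
  have hmH := mul_mem (mul_mem hsH A.memH) (inv_mem hsH)
  refine ⟨_, hm, hmH, ?_⟩
  have h1 := (A.of_mem hm hmH).comm_of_Z (mid_inv ht A hz' hQ hn s hs)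
  calc t * (s * z * s⁻¹) = t * s * t⁻¹ * (t * z * t⁻¹) * (t * s * t⁻¹)⁻¹ * t := by group
    _ = t * s * t⁻¹ * s * (s * z * s⁻¹) * (t * s * t⁻¹ * s)⁻¹ * t := by rw [e, e1]; group
    _ = s * z * s⁻¹ * t := by rw [h1]; group

/-- midpoints -/
theorem T2.mid (h : T2 p r X) (hr : r ≠ 2) (ht : t * t = 1) (hz : z ∈ X) :
    ∃ m ∈ X, t * m = m * t ∧ m ∈ RR z (t * z * t⁻¹) ⊔ zpowers z ∧
      ∃ u ∈ RR m z, z = u * m * u⁻¹ ∧ t * z * t⁻¹ = u⁻¹ * m * u := by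
  obtain ⟨A, hz', hQ⟩ := h.at_line hz (h.conj z hz t)
  obtain ⟨m, hm, hmE, e⟩ := mid_pt hr ht A hz' hQ (mid_NN ht z)
  obtain ⟨u, hu, e1⟩ := h.toFS.exists_conj hm hz
  refine ⟨m, hm, e, hmE, u, hu, e1, ?_⟩
  have hu' := h.toFS.RR_le_QQ hm hz hmE A.memH hu
  have h1 := mid_inv ht A hz' hQ (mid_NN ht z) u hu'
  have huE := QQ_le _ _ hu'
  have h2 := (A.of_mem (h.conj m hm u⁻¹)
    (mul_mem (mul_mem (inv_mem huE) hmE) (inv_mem (inv_mem huE)))).comm_of_Z h1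
  have h3 : t * m * t⁻¹ = m := by rw [e]; group
  calc t * z * t⁻¹ = t * u * t⁻¹ * u * (u⁻¹ * (t * m * t⁻¹) * u⁻¹⁻¹) * (t * u * t⁻¹ * u)⁻¹ := by
        rw [e1]; group
    _ = u⁻¹ * m * u := by rw [h3, h2]; group

/-- `z t` is conjugate to `t m γ` -/
theorem T2.zt (h : T2 p r X) (hr : r ≠ 2) (ht : t * t = 1) (hz : z ∈ X) :
    ∃ m ∈ X, t * m = m * t ∧ m ∈ RR z (t * z * t⁻¹) ⊔ zpowers z ∧
      ∃ c ∈ ZQ X (RR z (t * z * t⁻¹) ⊔ zpowers z), c * t = t * c ∧ IsConj (z * t) (t * (m * c)) := by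
  obtain ⟨A, hz', hQ⟩ := h.at_line hz (h.conj z hz t)
  have hn := mid_NN ht z
  generalize RR z (t * z * t⁻¹) ⊔ zpowers z = E at A hz' hQ hn ⊢
  obtain ⟨m, hm, hmE, e⟩ := mid_pt hr ht A hz' hQ hn
  have B := A.of_mem hm hmE
  have htQ := h.toFS.NN_QQ hn
  have htZ := h.toFS.NN_ZQ hn
  have haZ : m * t ∈ NN (ZQ X E) := mul_mem (h.toFS.ZQ_norm hmE) htZ
  have hf : ∀ u ∈ QQ X E, (m * t)⁻¹ * u * (m * t) * u⁻¹ ∈ ZQ X E → u ∈ ZQ X E := by
    intro u hu e1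
    let T : Subgroup G :=
      { carrier := {g | g ∈ NN (ZQ X E) ∧ g⁻¹ * u * g * u⁻¹ ∈ ZQ X E}
        one_mem' := ⟨one_mem _, by simp⟩
        mul_mem' := fun {a b} ha hb => ⟨mul_mem ha.1 hb.1, by
          have := mul_mem (conj_mem_of_mem_normalizer' hb.1 ha.2) hb.2
          convert this using 1
          group⟩
        inv_mem' := fun {a} ha => ⟨inv_mem ha.1, by
          have := conj_mem_of_mem_normalizer ha.1 (inv_mem ha.2)
          convert this using 1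
          group⟩ }
    have h1 : m * t ∈ T := ⟨haZ, e1⟩
    have h2 : (m * t) ^ p = t := by
      obtain ⟨j, hj⟩ := h.pp.odd_of_ne_two h.p2
      rw [(show Commute m t from e.symm).mul_pow, h.toFS.pow_eq_one hm, one_mul, hj, pow_succ,
        pow_mul, sq, ht, one_pow, one_mul]
    have h3 : m ∈ T := by
      have := T.mul_mem h1 (T.inv_mem (T.pow_mem h1 p))
      rwa [h2, mul_inv_cancel_right] at this
    exact B.fpf hu h3.2
  obtain ⟨u, hu, c, hc, e1⟩ := surj (ZQ_le X E) ((QQ_le X E).trans fun g hg => h.toFS.ZQ_norm hg)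
    (mul_mem (h.toFS.QQ_norm hmE) htQ) haZ hf
    (conj_mem_of_mem_normalizer' htQ (mem_QQ hm hz hmE A.memH))
  refine ⟨m, hm, e, hmE, c, hc, ?_, isConj_iff.2 ⟨u⁻¹, ?_⟩⟩
  · have h1 : ⁅QQ X E, QQ X E⁆ ≤ C1 t := by
      refine commutator_le.2 fun a ha b hb => mem_C1.2 ?_
      have ha' := conj_mem_of_mem_normalizer htQ ha
      have hb' := conj_mem_of_mem_normalizer htQ hb
      have h2 := A.br_mul_left ha' ha hb'
      rw [aff_br_Z (mid_inv ht A hz' hQ hn a ha) hb'] at h2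
      have h3 := A.br_mul_right ha hb' hb
      have h4 : br a (t * b * t⁻¹ * b) = 1 := by
        rw [br, (mem_ZQ.1 (mid_inv ht A hz' hQ hn b hb)).2 a ha]; group
      rw [h4] at h3
      have h5 : br (t * a * t⁻¹) (t * b * t⁻¹) = br a b := by
        rw [eq_inv_of_mul_eq_one_left h2.symm, eq_inv_of_mul_eq_one_right h3.symm]
      change br a b * t = t * br a b
      rw [← h5]
      conv_rhs => rw [h5]
      simp only [br]; group
    exact mem_C1.1 (h1 (A.Z_le_comm hc))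
  · have h1 := (mem_ZQ.1 hc).2 u hu
    have h2 : z * t = u * (m * t) * u⁻¹ * c := by
      calc z * t = m * t * (t⁻¹ * (m⁻¹ * z) * t) := by group
        _ = _ := by rw [e1]; group
    calc u⁻¹ * (z * t) * u⁻¹⁻¹ = m * t * u⁻¹ * (c * u) := by rw [h2]; group
      _ = t * (m * c) := by rw [← h1, ← e]; group

/-- two involutions fixing only the point `m` act in the same way -/
theorem T2.act_eq (h : T2 p r X) (hr : r ≠ 2) {s m : G} (ht : t * t = 1) (hs : s * s = 1)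
    (e1 : ∀ y ∈ X, t * y = y * t → y = m) (e2 : ∀ y ∈ X, s * y = y * s → y = m) (hz : z ∈ X) :
    t * z * t⁻¹ = s * z * s⁻¹ := by
  obtain ⟨m1, hm1, a1, -, u, hu, b1, c1⟩ := h.mid hr ht hz
  obtain ⟨m2, hm2, a2, -, v, hv, b2, c2⟩ := h.mid hr hs hz
  obtain rfl := e1 m1 hm1 a1
  obtain rfl := e2 m2 hm2 a2
  obtain ⟨A, -, hQ⟩ := h.at_line hm2 hz
  rw [← hQ] at hu hv
  have h1 : u⁻¹ * v * m2 = m2 * (u⁻¹ * v) := by
    calc u⁻¹ * v * m2 = u⁻¹ * (v * m2 * v⁻¹) * v := by group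
      _ = m2 * (u⁻¹ * v) := by rw [← b2]; conv_lhs => rw [b1]
                               group
  have h2 := (mem_ZQ.1 (A.mem_Z (mul_mem (inv_mem hu) hv) h1)).2 u hu
  have h3 : v = u⁻¹ * v * u := by rw [← h2]; group
  rw [c1, c2]
  calc u⁻¹ * m2 * u = u⁻¹ * (u⁻¹ * v)⁻¹ * (u⁻¹ * v * m2) * u := by group
    _ = (u⁻¹ * v * u)⁻¹ * m2 * (u⁻¹ * v * u) := by rw [h1]; group
    _ = v⁻¹ * m2 * v := by rw [← h3]

end CfsgLib.FsU
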