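import Cfsg.Agent.Lib.FsU.Blk

set_option autoImplicit false
set_option linter.unusedSectionVars false

namespace CfsgLib.FsU

open Subgroup CfsgLib.Tech

universe u

variable {G : Type u} [Group G] [Finite G] {p r : ℕ} {X : Set G} {H K M M' N : Subgroup G}
  {x y z g t u v : G}

/-- the group normalized by many points of both blocks -/
def YY (X : Set G) (M M' : Subgroup G) : Subgroup G :=
  QQ X (M ⊓ M') ⊔ ((ZQ X M ⊓ M') ⊔ (ZQ X M' ⊓ M))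

theorem YY_symm (X : Set G) (M M' : Subgroup G) : YY X M M' = YY X M' M := by
  rw [YY, YY, inf_comm M, sup_comm (ZQ X M ⊓ M')]

theorem o2_br_inv (a b : G) : br a b = (br b a)⁻¹ := by simp only [br]; group

theorem o2_br_one {a b : G} (h : a * b = b * a) : br a b = 1 := by
  rw [br, h]; group

theorem o2_Q0l (X : Set G) (M M' : Subgroup G) : QQ X (M ⊓ M') ≤ QQ X M := QQ_mono fun _ _ h => h.1

theorem o2_Q0r (X : Set G) (M M' : Subgroup G) : QQ X (M ⊓ M') ≤ QQ X M' := QQ_mono fun _ _ h => h.2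

/-- the group `D` -/
abbrev O2D (X : Set G) (M M' : Subgroup G) : Subgroup G := QQ X (M ⊓ M') ⊔ ZQ X M

theorem o2_memD (h : FS p r X) {d : G} :
    d ∈ O2D X M M' ↔ ∃ w ∈ QQ X (M ⊓ M'), ∃ ζ ∈ ZQ X M, w * ζ = d :=
  Core.mem_sup_of_le_normalizer_right fun _ hw => h.ZQ_norm (QQ_le X M (o2_Q0l X M M' hw))

theorem o2_Dle (X : Set G) (M M' : Subgroup G) : O2D X M M' ≤ QQ X M := sup_le (o2_Q0l X M M') (ZQ_le X M)

theorem o2_Dn (A : At p r X M x) (hu : u ∈ QQ X M) {d : G} (hd : d ∈ O2D X M M') :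
    u * d * u⁻¹ ∈ O2D X M M' := by
  have := mul_mem (mem_sup_right (S := QQ X (M ⊓ M')) (A.br_mem hu (o2_Dle X M M' hd))) hd
  rwa [br, inv_mul_cancel_right] at this

theorem o2_NND (h : FS p r X) (h1 : g ∈ M) (h2 : g ∈ NN (QQ X (M ⊓ M'))) : g ∈ NN (O2D X M M') := by
  rw [mem_normalizer_iff_cj, cj_sup, mem_normalizer_iff_cj.1 h2, mem_normalizer_iff_cj.1 (h.ZQ_norm h1)]

/-- the group `W` -/
def O2W (A : At p r X M x) (M' : Subgroup G) : Subgroup G where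
  carrier := {u | u ∈ QQ X M ∧ ∀ ρ ∈ ZQ X M' ⊓ M, br ρ u ∈ O2D X M M'}
  one_mem' := ⟨one_mem _, fun ρ _ => by simp [br]⟩
  mul_mem' := fun {a b} ha hb => ⟨mul_mem ha.1 hb.1, fun ρ hρ => by
    have := mul_mem (ha.2 ρ hρ) (o2_Dn A ha.1 (hb.2 ρ hρ))
    convert this using 1
    simp only [br]; group⟩
  inv_mem' := fun {a} ha => ⟨inv_mem ha.1, fun ρ hρ => by
    have := o2_Dn A (inv_mem ha.1) (inv_mem (ha.2 ρ hρ))
    convert this using 1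
    simp only [br]; group⟩

theorem MC.o2a (h : MC p r X) (hM : Blk X M) (hM' : Blk X M') (hne : M ≠ M') (hx : x ∈ X)
    (hxM : x ∈ M) (hxM' : x ∈ M') (hz : z ∈ ZQ X M') (hzM : z ∈ M) (hc : z ∉ center G) :
    (∃ w ∈ ZQ X M, w ∈ M' ∧ w ∉ center G) ∧
      ∀ L : Subgroup G, Blk X L → (∀ y ∈ X, y ∈ NN (YY X M M') → y ∈ L) → L = M := by
  have fs := h.toFS
  have A := h.at hM.ne hx hxM
  have A' := h.at hM'.ne hx hxM'
  have A0 : At p r X (M ⊓ M') x := h.at (ne_top_of_le_ne_top hM.ne inf_le_left) hx ⟨hxM, hxM'⟩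
  have l := o2_Q0l X M M'
  have l' := o2_Q0r X M M'
  have ZZ : ∀ w ∈ ZQ X M, w ∈ ZQ X M' → w ∈ center G := fun w h1 h2 =>
    by_contra fun h3 => hne (hM.eq_of_Z hM' h h1 h2 h3)
  have cQ : ∀ ρ ∈ ZQ X M', ∀ w ∈ QQ X (M ⊓ M'), ρ * w * ρ⁻¹ = w := fun ρ hρ w hw => by
    rw [← (mem_ZQ.1 hρ).2 w (l' hw), mul_inv_cancel_right]
  have ha : ∀ u ∈ QQ X M, u * x * u⁻¹ ∈ M' → u ∈ O2D X M M' := fun u hu e => by
    have hu' := QQ_le X M hu
    obtain ⟨u0, h0, e0⟩ := A0.exists_conj (fs.conj x hx u) ⟨M.mul_mem (M.mul_mem hu' hxM) (M.inv_mem hu'), e⟩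
    refine (o2_memD fs).2 ⟨u0, h0, u0⁻¹ * u, A.mem_Z (mul_mem (inv_mem (l h0)) hu) ?_, by group⟩
    calc u0⁻¹ * u * x = u0⁻¹ * (u * x * u⁻¹) * u := by group
      _ = _ := by rw [e0]; group
  have hlt : O2D X M M' < QQ X M := lt_of_le_of_ne (o2_Dle X M M') fun e => hne (hM.eq_of_le hM' fun y hy hy' => by
    obtain ⟨u, hu, rfl⟩ := A.exists_conj hy hy'
    obtain ⟨w, hw, ζ, hζ, rfl⟩ := (o2_memD fs).1 (e ▸ hu)
    have hw' := (QQ_le X _ hw).2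
    rw [mul_assoc w, A.comm_of_Z hζ, show w * (x * ζ) * (w * ζ)⁻¹ = w * x * w⁻¹ by group]
    exact mul_mem (mul_mem hw' hxM') (inv_mem hw'))
  obtain ⟨u, hu, huD, -, hu2⟩ := fix_quot (P := ZQ X M' ⊓ M) fs.rp A.pg
    (A'.pg.to_le (inf_le_left.trans (ZQ_le X M'))) hlt (fun a ha => fs.QQ_norm ha.2) fun a ha =>
      o2_NND fs ha.2 (mem_normalizer_of_forall fun w hw => by rwa [cQ a ha.1 w hw])
  have huW : u ∈ O2W A M' := ⟨hu, fun ρ hρ => o2_br_inv ρ u ▸ inv_mem (hu2 ρ hρ)⟩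
  have ZW : ZQ X M ≤ O2W A M' := fun ζ hζ => ⟨ZQ_le X M hζ, fun ρ hρ =>
    mem_sup_right (mul_mem (fs.ZQ_conj hρ.2 hζ) (inv_mem hζ))⟩
  have QW : QQ X (M ⊓ M') ≤ O2W A M' := fun w hw => ⟨l hw, fun ρ hρ => by
    rw [br, cQ ρ hρ.1 w hw, mul_inv_cancel]
    exact one_mem _⟩
  have xW : x ∈ NN (O2W A M') := mem_normalizer_of_forall fun w hw => ⟨fs.QQ_conj hxM hw.1, fun ρ hρ => by
    have := conj_mem_of_mem_normalizer (o2_NND fs hxM (fs.QQ_norm ⟨hxM, hxM'⟩)) (hw.2 ρ hρ)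
    convert this using 1
    have e := A'.comm_of_Z hρ.1
    calc br ρ (x * w * x⁻¹) = (ρ * x) * w * (ρ * x)⁻¹ * x * w⁻¹ * x⁻¹ := by simp only [br]; group
      _ = _ := by rw [e]; simp only [br]; group⟩
  have key : ∀ u ∈ O2W A M', ∀ w1 ∈ QQ X (M ⊓ M'), ∀ ζ ∈ ZQ X M, w1 * ζ = br z u → ∀ w ∈ QQ X (M ⊓ M'),
      br z (br u w) = br w1 w := fun u hu w1 h1 ζ hζ e w hw => by
    have e1 : z * u * z⁻¹ = w1 * (ζ * u) := by rw [← mul_assoc w1, e, br, inv_mul_cancel_right]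
    have e2 : z * br u w * z⁻¹ = br (z * u * z⁻¹) (z * w * z⁻¹) := by simp only [br]; group
    rw [br, e2, e1, cQ z hz w hw, A.br_mul_left (l h1) (mul_mem (ZQ_le X M hζ) hu.1) (l hw),
      A.br_mul_left (ZQ_le X M hζ) hu.1 (l hw), o2_br_one ((mem_ZQ.1 hζ).2 w (l hw)).symm, one_mul,
      mul_inv_cancel_right]
  have hb : ∀ u ∈ O2W A M', ∀ w ∈ QQ X (M ⊓ M'), br u w ∈ ZQ X M ⊓ M' := fun u hu w hw => by
    obtain ⟨w1, h1, ζ, hζ, e⟩ := (o2_memD fs).1 (hu.2 z ⟨hz, hzM⟩)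
    refine ⟨A.br_mem hu.1 (l hw), hM'.mem_of_br h hz hc ?_⟩
    rw [o2_br_inv, key u hu w1 h1 ζ hζ e w hw]
    exact inv_mem (ZZ _ (A.br_mem (l h1) (l hw)) (A'.br_mem (l' h1) (l' hw)))
  obtain ⟨w0, hw0, hc0⟩ : ∃ w ∈ QQ X (M ⊓ M'), br u w ∉ center G := by
    by_contra! hcon
    obtain ⟨w1, h1, ζ, hζ, e⟩ := (o2_memD fs).1 (huW.2 z ⟨hz, hzM⟩)
    have h2 : w1 ∈ ZQ X (M ⊓ M') := mem_ZQ.2 ⟨h1, fun w hw => by
      have := key u huW w1 h1 ζ hζ e w hw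
      rw [o2_br_one (mem_center_iff.1 (hcon w hw) z)] at this
      calc w * w1 = br w1 w * (w * w1) := by rw [← this, one_mul]
        _ = _ := by simp only [br]; group⟩
    have h3 : br z u ∈ ZQ X M := e ▸ mul_mem (A.mem_Z (l h1) (A0.comm_of_Z h2)) hζ
    have hu' := QQ_le X M hu
    have h4 := (A.of_mem (fs.conj x hx u) (mul_mem (mul_mem hu' hxM) (inv_mem hu'))).comm_of_Z h3
    refine huD (ha u hu (hM'.C1_le h hz hc (mem_C1.2 ?_)))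
    have e1 := A'.comm_of_Z hz
    have e4 : z * (u * x * u⁻¹) * z⁻¹ = u * x * u⁻¹ :=
      calc _ = (z * u * z⁻¹) * (z * x * z⁻¹) * (z * u * z⁻¹)⁻¹ := by group
        _ = br z u * (u * x * u⁻¹) * (br z u)⁻¹ := by rw [e1]; simp only [br]; group
        _ = _ := by rw [h4, mul_inv_cancel_right]
    exact (mul_inv_eq_iff_eq_mul.1 e4).symm
  have hd : ∀ u ∈ O2W A M', u * x * u⁻¹ ∈ NN (YY X M M') := fun u hu => by
    have hu' := QQ_le X M hu.1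
    have B := A.of_mem (fs.conj x hx u) (mul_mem (mul_mem hu' hxM) (inv_mem hu'))
    have hc : x⁻¹ * u * x * u⁻¹ ∈ O2W A M' := mul_mem (conj_mem_of_mem_normalizer' xW hu) (inv_mem hu)
    have d1 : ∀ w ∈ QQ X (M ⊓ M'), u * x * u⁻¹ * w * (u * x * u⁻¹)⁻¹ ∈ YY X M M' := fun w hw => by
      have h1 := hb _ hc w hw
      have h2 := A.comm_of_Z h1.1
      have : br (x⁻¹ * u * x * u⁻¹) w * (x * w * x⁻¹) ∈ YY X M M' := mul_mem (mem_sup_right (mem_sup_left h1))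
        (mem_sup_left (fs.QQ_conj (g := x) ⟨hxM, hxM'⟩ hw))
      convert this using 1
      rw [← mul_assoc, ← mul_assoc, h2]
      simp only [br]; group
    refine mem_normalizer_of_cj_le ?_
    conv_lhs => rw [YY, cj_sup, cj_sup]
    refine sup_le (cj_le_iff.2 d1) (sup_le (cj_le_iff.2 fun ρ hρ => ?_) (cj_le_iff.2 fun ρ hρ => ?_))
    · rw [← B.comm_of_Z hρ.1, mul_inv_cancel_right]
      exact mem_sup_right (mem_sup_left hρ)
    · obtain ⟨w1, h1, ζ, hζ, e⟩ := (o2_memD fs).1 (hu.2 ρ hρ)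
      have := mul_mem (mul_mem (d1 w1 h1) (mem_sup_left (inv_mem h1))) (mem_sup_right (mem_sup_right hρ))
      convert this using 1
      have e1 := A'.comm_of_Z hρ.1
      have e2 := B.comm_of_Z hζ
      have e3 : ρ * u * ρ⁻¹ = w1 * ζ * u := by rw [e, br, inv_mul_cancel_right]
      have e4 : ρ * (u * x * u⁻¹) * ρ⁻¹ = w1 * (u * x * u⁻¹) * w1⁻¹ :=
        calc _ = (ρ * u * ρ⁻¹) * (ρ * x * ρ⁻¹) * (ρ * u * ρ⁻¹)⁻¹ := by group
          _ = w1 * (ζ * (u * x * u⁻¹)) * ζ⁻¹ * w1⁻¹ := by rw [e3, e1]; group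
          _ = _ := by rw [e2]; group
      calc _ = u * x * u⁻¹ * (ρ * (u * x * u⁻¹) * ρ⁻¹)⁻¹ * ρ := by group
        _ = _ := by rw [e4]; group
  refine ⟨⟨_, (hb u huW w0 hw0).1, (hb u huW w0 hw0).2, hc0⟩, fun L hL hY => ?_⟩
  have pt : ∀ w ∈ O2W A M', w * x * w⁻¹ ∈ L := fun w hw => hY _ (fs.conj x hx w) (hd w hw)
  have xL : x ∈ L := by simpa using pt 1 (one_mem _)
  have QL : QQ X (M ⊓ M') ≤ QQ X L := QQ_mono fun y hy hy' => by
    obtain ⟨w, hw, rfl⟩ := A0.exists_conj hy hy'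
    exact pt w (QW hw)
  obtain ⟨w, hw, γ, hγ, e⟩ := A.surj (W := O2W A M') (fun _ hw => hw.1) ZW xW huW
  have a1 : x⁻¹ * w * x * w⁻¹ ∈ QQ X L := by
    simpa [mul_assoc] using mem_QQ hx (fs.conj x hx w) xL (pt w hw)
  have a2 : x⁻¹ * w * x * w⁻¹ ∈ QQ X M := (mul_mem (conj_mem_of_mem_normalizer' xW hw) (inv_mem hw)).1
  refine hL.eq_of_Z hM h ?_ (hb u huW w0 hw0).1 hc0
  rw [e, A.br_mul_left a2 (ZQ_le X M hγ) (l hw0), o2_br_one ((mem_ZQ.1 hγ).2 w0 (l hw0)).symm, mul_one]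
  exact (h.at hL.ne hx xL).br_mem a1 (QL hw0)

theorem MC.o2 (h : MC p r X) (hM : Blk X M) (hM' : Blk X M') (hx : x ∈ X)
    (hxM : x ∈ M) (hxM' : x ∈ M') (hz : z ∈ ZQ X M') (hzM : z ∈ M) (hc : z ∉ center G) :
    M = M' := by
  by_contra hne
  obtain ⟨⟨w, h1, h2, h3⟩, hL⟩ := h.o2a hM hM' hne hx hxM hxM' hz hzM hc
  obtain ⟨-, hL'⟩ := h.o2a hM' hM (Ne.symm hne) hx hxM' hxM h1 h2 h3
  have pg : IsPGroup r (ZQ X M' ⊓ M ⊔ QQ X M : Subgroup G) :=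
    ((h.good M' hM'.ne).to_le (inf_le_left.trans (ZQ_le X M'))).to_sup_of_normal_right' (h.good M hM.ne)
      fun a ha => h.toFS.QQ_norm ha.2
  have le : YY X M M' ≤ ZQ X M' ⊓ M ⊔ QQ X M := sup_le ((o2_Q0l X M M').trans le_sup_right)
    (sup_le ((inf_le_left.trans (ZQ_le X M)).trans le_sup_right) le_sup_left)
  obtain ⟨L, hB, e⟩ := h.exists_blk (h.NN_ne (pg.to_le le) fun hle =>
    hc (hle (mem_sup_right (mem_sup_right ⟨hz, hzM⟩))))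
  exact hne ((hL L hB e).symm.trans (hL' L hB (YY_symm X M M' ▸ e)))

end CfsgLib.FsU
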