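import Cfsg.Agent.Lib.FsU.Hol
import Cfsg.Agent.Lib.FsU.TypeI
import Cfsg.Agent.Lib.FsU.Mid
import Cfsg.Agent.Lib.ZStar.Main
import Cfsg.Agent.S0205

set_option autoImplicit false
set_option linter.unusedSectionVars false

namespace CfsgLib.FsU

open Subgroup CfsgLib.Tech

universe u

variable {G : Type u} [Group G] [Finite G] {p r : ℕ} {X : Set G} {H K M M' N : Subgroup G}
  {x y z g t u v : G}

theorem MC.exists_inv (h : MC p r X) : ∃ t : G, orderOf t = 2 := by
  rcases Nat.even_or_odd (Nat.card G) with he | ho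
  · have : Fact (Nat.Prime 2) := ⟨Nat.prime_two⟩
    exact exists_prime_orderOf_dvd_card' 2 he.two_dvd
  exfalso
  obtain ⟨n, hn⟩ := (Cfsg.Agent.S0205.result ho).solvable
  have key : ∀ n, ¬ derivedSeries G n ≤ center G := by
    intro n
    induction n with
    | zero =>
      obtain ⟨x, hx, -⟩ := h.exists_ne 1
      exact fun e => h.not_center hx (e (mem_top x))
    | succ n ih =>
      intro e
      rcases h.nc (derivedSeries_normal G n) with e1 | e1
      · exact ih e1
      · refine h.not_cent fun x hx y hy a ha b hb => e ?_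
        have := (h.toFS.RR_le_QQ hx hy (mem_top x) (mem_top y)).trans e1
        exact commutator_mem_commutator (this ha) (this hb)
  exact key n (hn ▸ bot_le)

theorem MC.eq_one_of_center (h : MC p r X) (hr : r ≠ 2) (hv : v ∈ center G) (e : v * v = 1) :
    v = 1 := by
  obtain ⟨b, hb⟩ := h.zr ⟨v, hv⟩
  exact ba_eq_one (a := 1) (b := b) Nat.prime_two h.rp hr (by rw [pow_one, pow_two, e])
    (congrArg Subtype.val hb)

theorem od1_sq (ht : orderOf t = 2) : t * t = 1 := by rw [← pow_two, ← ht, pow_orderOf_eq_one]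

theorem od1_ne (ht : orderOf t = 2) : t ≠ 1 := fun e => by rw [e, orderOf_one] at ht; omega

theorem od1_pow (h : FS p r X) (ht : t * t = 1) : t ^ p = t := by
  obtain ⟨k, hk⟩ := h.pp.odd_of_ne_two h.p2
  rw [hk, pow_succ, pow_mul, pow_two, ht, one_pow, one_mul]

theorem MC.two_fix (h : MC p r X) (hr : r ≠ 2) (ht : orderOf t = 2) :
    ∃ m ∈ X, ∃ m' ∈ X, m ≠ m' ∧ t * m = m * t ∧ t * m' = m' * t := by
  by_contra hc
  have tt := od1_sq ht
  obtain ⟨x, hx, -⟩ := h.exists_ne 1
  obtain ⟨m, hm, tm, -⟩ := h.toT2.mid hr tt hx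
  have e1 : ∀ y ∈ X, t * y = y * t → y = m := fun y hy e => by
    by_contra hne
    exact hc ⟨y, hy, m, hm, hne, e, tm⟩
  have e2 : ∀ g : G, ∀ y ∈ X, g * t * g⁻¹ * y = y * (g * t * g⁻¹) → g⁻¹ * y * g = m := by
    intro g y hy e
    refine e1 _ (by simpa using h.conj y hy g⁻¹) ?_
    calc t * (g⁻¹ * y * g) = g⁻¹ * (g * t * g⁻¹ * y) * g := by group
      _ = g⁻¹ * (y * (g * t * g⁻¹)) * g := by rw [e]
      _ = g⁻¹ * y * g * t := by group
  have hA : ∀ g : G, g * m = m * g → g * t * g⁻¹ = t := by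
    intro g hg
    have ss : g * t * g⁻¹ * (g * t * g⁻¹) = 1 := by
      rw [show g * t * g⁻¹ * (g * t * g⁻¹) = g * (t * t) * g⁻¹ by group, tt]; group
    have hcen : t⁻¹ * (g * t * g⁻¹) ∈ center G := h.mem_center fun z hz => by
      have := h.toT2.act_eq hr tt ss e1 (fun y hy e => by
        have := e2 g y hy e
        calc y = g * (g⁻¹ * y * g) * g⁻¹ := by group
          _ = m := by rw [this, hg]; group) hz
      calc t⁻¹ * (g * t * g⁻¹) * z
          = t⁻¹ * (g * t * g⁻¹ * z * (g * t * g⁻¹)⁻¹) * (g * t * g⁻¹) := by group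
        _ = t⁻¹ * (t * z * t⁻¹) * (g * t * g⁻¹) := by rw [this]
        _ = z * (t⁻¹ * (g * t * g⁻¹)) := by group
    have hcc := mem_center_iff.1 hcen t
    have := h.eq_one_of_center hr hcen (by
      generalize hc : t⁻¹ * (g * t * g⁻¹) = c at hcc
      have hs : g * t * g⁻¹ = t * c := by rw [← hc]; group
      calc c * c = t * (t * c) * c := by rw [← mul_assoc, tt, one_mul]
        _ = t * (c * t) * c := by rw [hcc]
        _ = t * c * (t * c) := by group
        _ = 1 := by rw [← hs, ss])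
    exact (inv_mul_eq_one.1 this).symm
  have hiso : Cfsg.IsIsolatedInvolution t := by
    refine ⟨ht, fun g hg => hA g ?_⟩
    have a1 := e1 _ (h.conj m hm (g * t * g⁻¹)) (by
      calc t * (g * t * g⁻¹ * m * (g * t * g⁻¹)⁻¹)
          = (t * (g * t * g⁻¹)) * m * (g * t * g⁻¹)⁻¹ := by group
        _ = g * t * g⁻¹ * (t * m) * (g * t * g⁻¹)⁻¹ := by rw [hg.eq]; group
        _ = g * t * g⁻¹ * m * (g * t * g⁻¹)⁻¹ * (g * t * g⁻¹ * t) * (g * t * g⁻¹)⁻¹ := by
          rw [tm]; group
        _ = g * t * g⁻¹ * m * (g * t * g⁻¹)⁻¹ * t := by rw [← hg.eq]; group)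
    have a2 := e2 g m hm (by rw [← mul_inv_eq_iff_eq_mul, a1])
    calc g * m = g * (g⁻¹ * m * g) := by rw [a2]
      _ = m * g := by group
  have hz := CfsgLib.ZStar.zstar hiso
  rcases h.nc (N := Cfsg.pPrimeCore 2 G) inferInstance with e | e
  · exact od1_ne ht (h.eq_one_of_center hr (h.mem_center' fun y _ => e (hz y)) tt)
  · have hn := hol_NN (N := Cfsg.pPrimeCore 2 G) inferInstance
    have : t ∈ Cfsg.pPrimeCore 2 G ⊔ zpowers x :=
      (sup_le_sup_right e _) ((h.sup_eq_top hx).ge (mem_top t))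
    obtain ⟨n, hn', k, e3⟩ := ba_mem_sup (hn x) this
    have := ba_pow (hn (x ^ k)) hn' p
    rw [← e3, od1_pow h.toFS tt, ← pow_mul, mul_comm, pow_mul, h.toFS.pow_eq_one hx, one_pow, inv_one,
      mul_one] at this
    have h2 := (CfsgLib.Core.odd_card_oddCore G).of_dvd_nat (orderOf_dvd_natCard _ this)
    rw [ht] at h2
    exact absurd h2 (by decide)

end CfsgLib.FsU
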