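import Cfsg.Agent.Lib.FsU.O2
import Cfsg.Agent.Lib.FsU.Odd1

set_option autoImplicit false
set_option linter.unusedSectionVars false

namespace CfsgLib.FsU

open Subgroup CfsgLib.Tech

universe u

variable {G : Type u} [Group G] [Finite G] {p r : ℕ} {X : Set G} {H K M M' N : Subgroup G}
  {x y z g t u v : G}

theorem Blk.inv_mem (hM : Blk X M) (h : MC p r X) (hr : r ≠ 2) (ht : t * t = 1)
    (e : ∀ m ∈ X, t * m = m * t → m ∈ M) : t ∈ M := by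
  refine hM.mem_of_norm h fun y hy hy' => ?_
  obtain ⟨m, hm, tm, -, u, hu, -, e2⟩ := h.toT2.mid hr ht hy
  have := QQ_le X M (h.toFS.RR_le_QQ hm hy (e m hm tm) hy' hu)
  rw [e2]
  exact mul_mem (mul_mem (M.inv_mem this) (e m hm tm)) this

theorem od2_nc (h : MC p r X) (hr : r ≠ 2) (ht : orderOf t = 2) : t ∉ center G := fun e =>
  od1_ne ht (h.eq_one_of_center hr e (od1_sq ht))

/-- `t` centralises `Z` -/
theorem od2_Z (hM : Blk X M) (hM' : Blk X M') (h : MC p r X) (hr : r ≠ 2) (ht : orderOf t = 2)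
    (e : ∀ m ∈ X, t * m = m * t → m ∈ M) (e' : ∀ m ∈ X, t * m = m * t → m ∈ M') (hne : M ≠ M')
    {ζ : G} (hζ : ζ ∈ ZQ X M) : t * ζ = ζ * t := by
  have tt := od1_sq ht
  have ti : t⁻¹ = t := inv_eq_of_mul_eq_one_right tt
  obtain ⟨m, hm, -, -, -, tm, -⟩ := h.two_fix hr ht
  have hζM : ζ ∈ M := QQ_le X M (ZQ_le X M hζ)
  have ss : ζ * t * ζ⁻¹ * (ζ * t * ζ⁻¹) = 1 := by
    rw [show ζ * t * ζ⁻¹ * (ζ * t * ζ⁻¹) = ζ * (t * t) * ζ⁻¹ by group, tt]; group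
  have h1 : ζ * t * ζ⁻¹ ∈ M' := hM'.inv_mem h hr ss fun y hy e1 => by
    have e2 : t * (ζ⁻¹ * y * ζ) = ζ⁻¹ * y * ζ * t := by
      calc t * (ζ⁻¹ * y * ζ) = ζ⁻¹ * (ζ * t * ζ⁻¹ * y) * ζ := by group
        _ = ζ⁻¹ * (y * (ζ * t * ζ⁻¹)) * ζ := by rw [e1]
        _ = ζ⁻¹ * y * ζ * t := by group
    have e3 := e _ (by simpa using h.conj y hy ζ⁻¹) e2
    have e4 : y ∈ M := by simpa [mul_assoc] using mul_mem (mul_mem hζM e3) (inv_mem hζM)
    have e5 := mem_C1.1 (hM.pt_C1 h hζ hy e4)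
    rw [mul_assoc ζ⁻¹, e5, inv_mul_cancel_left] at e2
    exact e' y hy e2
  have h2 : ζ * t * ζ⁻¹ * t ∈ ZQ X M := by
    have := mul_mem hζ (h.toFS.ZQ_conj (hM.inv_mem h hr tt e) (inv_mem hζ))
    rwa [ti, ← mul_assoc, ← mul_assoc] at this
  have h3 : ζ * t * ζ⁻¹ * t ∈ center G := by
    by_contra hc
    exact hne (h.o2 hM' hM hm (e' m hm tm) (e m hm tm) h2 (mul_mem h1 (hM'.inv_mem h hr tt e')) hc).symm
  have h4 := h.eq_one_of_center hr h3 (by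
    calc ζ * t * ζ⁻¹ * t * (ζ * t * ζ⁻¹ * t) = ζ * t * ζ⁻¹ * (t * (ζ * t * ζ⁻¹ * t)) := by group
      _ = ζ * t * ζ⁻¹ * (ζ * t * ζ⁻¹) * (t * t) := by rw [mem_center_iff.1 h3 t]; group
      _ = 1 := by rw [ss, tt, one_mul])
  calc t * ζ = ζ * t * ζ⁻¹ * t * (t * ζ) := by rw [h4, one_mul]
    _ = ζ * t * ζ⁻¹ * (t * t) * ζ := by group
    _ = ζ * t := by rw [tt]; group

/-- `Q` normalises `θ Z(G)` -/
theorem od2_Q (hM : Blk X M) (h : MC p r X) (hr : r ≠ 2) (ht : orderOf t = 2)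
    (e : ∀ m ∈ X, t * m = m * t → m ∈ M) (hZ : ∀ ζ ∈ ZQ X M, t * ζ = ζ * t)
    (hc : ZQ X (C1 t) ≤ center G) {a b : G} (ha : a ∈ QQ X (C1 t)) (hb : b ∈ QQ X M) :
    br a b ∈ center G := by
  have tt := od1_sq ht
  have ti : t⁻¹ = t := inv_eq_of_mul_eq_one_right tt
  obtain ⟨m, hm, -, -, -, tm, -⟩ := h.two_fix hr ht
  have A := h.at hM.ne hm (e m hm tm)
  have B := h.at (C1_ne_top (od2_nc h hr ht)) hm (mem_C1.2 tm.symm)
  have hle : QQ X (C1 t) ≤ QQ X M := QQ_mono fun y hy hy' => e y hy (mem_C1.1 hy').symm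
  have ta := mem_C1.1 (QQ_le X _ ha)
  have hb' := h.toFS.QQ_conj (hM.inv_mem h hr tt e) hb
  have e1 : br a (t * b * t⁻¹) = br a b := by
    have := hZ _ (A.br_mem (hle ha) hb)
    have a1 : t⁻¹ * a * t = a := by rw [mul_assoc, ta, inv_mul_cancel_left]
    calc br a (t * b * t⁻¹) = t * br (t⁻¹ * a * t) b * t⁻¹ := by simp only [br]; group
      _ = br a b := by rw [a1, this]; group
  set d := b * (t * b * t⁻¹) with hd
  have hdQ : d ∈ QQ X M := mul_mem hb hb'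
  have hζ := A.br_mem (inv_mem hb') (inv_mem hb)
  have e2 : t * d * t⁻¹ = d * br (t * b * t⁻¹)⁻¹ b⁻¹ := by
    calc t * d * t⁻¹ = t * b * t⁻¹ * (t * t) * b * (t * t)⁻¹ := by rw [hd]; group
      _ = _ := by rw [tt, hd]; simp only [br]; group
  have e3 := A.comm_of_Z hζ
  generalize br (t * b * t⁻¹)⁻¹ b⁻¹ = ζ at e2 e3
  have e4 : d * m * d⁻¹ ∈ C1 t := mem_C1.2 (by
    calc d * m * d⁻¹ * t = d * (ζ * m) * (d * ζ)⁻¹ * t := by rw [e3]; group
      _ = (d * ζ) * m * (d * ζ)⁻¹ * t := by group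
      _ = t * d * (t⁻¹ * (m * t)) * d⁻¹ := by rw [← e2]; group
      _ = t * (d * m * d⁻¹) := by rw [← tm]; group)
  obtain ⟨w, hw, e5⟩ := B.exists_conj (h.conj m hm d) e4
  have e6 : w⁻¹ * d ∈ ZQ X M := A.mem_Z (mul_mem (inv_mem (hle hw)) hdQ) (by
    calc w⁻¹ * d * m = w⁻¹ * (d * m * d⁻¹) * d := by group
      _ = m * (w⁻¹ * d) := by rw [e5]; group)
  have e7 : br a d = br a w := by
    have := A.br_mul_right (hle ha) (hle hw) (ZQ_le X M e6)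
    rw [mul_inv_cancel_left, o2_br_one ((mem_ZQ.1 e6).2 a (hle ha)), mul_one] at this
    exact this
  have e8 : br a b * br a b ∈ center G := by
    have := hc (B.br_mem ha hw)
    rwa [← e7, hd, A.br_mul_right (hle ha) hb hb', e1] at this
  obtain ⟨k, hk⟩ := h.rp.odd_of_ne_two hr
  have e9 := A.pow_Z (A.br_mem (hle ha) hb)
  rw [hk, pow_succ, pow_mul, pow_two, ← eq_inv_iff_mul_eq_one] at e9
  have := pow_mem e8 k
  rwa [e9, inv_mem_iff] at this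

theorem Blk.uniq (hM : Blk X M) (hM' : Blk X M') (h : MC p r X) (hr : r ≠ 2) (ht : orderOf t = 2)
    (e : ∀ m ∈ X, t * m = m * t → m ∈ M) (e' : ∀ m ∈ X, t * m = m * t → m ∈ M') : M = M' := by
  by_contra hne
  obtain ⟨m, hm, m', hm', mm, tm, tm'⟩ := h.two_fix hr ht
  have B := h.at (C1_ne_top (od2_nc h hr ht)) hm (mem_C1.2 tm.symm)
  have hc : ZQ X (C1 t) ≤ center G := fun z hz => by
    by_contra hc
    exact hne (hM.eq_of_Z hM' h
      (B.Z_mono (h.at hM.ne hm (e m hm tm)) (fun y hy hy' => e y hy (mem_C1.1 hy').symm) hz)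
      (B.Z_mono (h.at hM'.ne hm (e' m hm tm)) (fun y hy hy' => e' y hy (mem_C1.1 hy').symm) hz) hc)
  have hP : IsPGroup r (QQ X (C1 t) ⊔ center G : Subgroup G) :=
    IsPGroup.to_sup_of_normal_right B.pg h.zr
  have hn : NN (QQ X (C1 t) ⊔ center G) ≠ ⊤ := h.NN_ne hP fun e1 => mm (h.nab m hm m' hm' fun a ha b _ =>
    (mem_center_iff.1 (e1 (mem_sup_left
      (h.toFS.RR_le_QQ hm hm' (mem_C1.2 tm.symm) (mem_C1.2 tm'.symm) ha))) b).symm)
  have key : ∀ L : Subgroup G, Blk X L → (∀ m ∈ X, t * m = m * t → m ∈ L) →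
      (∀ ζ ∈ ZQ X L, t * ζ = ζ * t) → ∀ y ∈ X, y ∈ L → y ∈ NN (QQ X (C1 t) ⊔ center G) := by
    intro L hL e1 hZ y hy hy'
    obtain ⟨u, hu, rfl⟩ := (h.at hL.ne hm (e1 m hm tm)).exists_conj hy hy'
    have hu' : u ∈ NN (QQ X (C1 t) ⊔ center G) := by
      refine mem_normalizer_of_cj_le ?_
      rw [← cj_le_cj_iff u⁻¹, cj_inv_cj]
      refine sup_le (fun a ha => mem_cj.2 ?_) fun a ha => mem_cj.2 ?_
      · rw [show u⁻¹⁻¹ * a * u⁻¹ = (br a u)⁻¹ * a by simp only [br]; group]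
        exact mul_mem (Subgroup.inv_mem _ (mem_sup_right (od2_Q hL h hr ht e1 hZ hc ha hu))) (mem_sup_left ha)
      · rw [inv_inv, mem_center_iff.1 ha u, mul_inv_cancel_right]
        exact mem_sup_right ha
    exact mul_mem (mul_mem hu' (blk_sup (h.toFS.QQ_norm (mem_C1.2 tm.symm))
      (hol_NN inferInstance m))) (Subgroup.inv_mem _ hu')
  have h1 := hM'.mx _ hn (key M' hM' e' fun ζ hζ => od2_Z hM' hM h hr ht e' e (Ne.symm hne) hζ)
  exact hne (hM.eq_of_le hM' fun y hy hy' =>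
    h1 (key M hM e (fun ζ hζ => od2_Z hM hM' h hr ht e e' hne hζ) y hy hy'))

end CfsgLib.FsU
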