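import Cfsg.Agent.Lib.FsU.Defs
import Cfsg.Agent.Lib.ZStar.Main

set_option autoImplicit false
set_option linter.unusedSectionVars false

namespace CfsgLib.FsU

open Subgroup CfsgLib.Tech

universe u

variable {G : Type u} [Group G] [Finite G] {p r : ℕ} {X : Set G} {H K M M' N : Subgroup G}
  {x y z g t u v : G}

open Finset Cfsg CfsgLib.Char CfsgLib.ZStar Classical in
/-- the principal `2`-block identity -/
theorem pb (ht : orderOf t = 2) (hgen : ∀ K : Subgroup G, K.Normal → x ∈ K → K = ⊤)
    (hN : Odd (Nat.card N)) (hNC : ∀ n ∈ N, n * t = t * n)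
    (hCN : ∀ c : G, c * t = t * c → ∀ n ∈ N, c * n * c⁻¹ ∈ N)
    (e : ∀ g : G, ∃ n ∈ N, IsConj (g * x * g⁻¹ * t) (t * n)) : False := by
  have := Fintype.ofFinite G
  obtain ⟨B, h2⟩ := exists_valuation 2 Nat.prime_two
  set v := B.valuation
  have h2' : v 2 < 1 := by simpa using h2
  have hle := CfsgLib.Core.le_map_pPrimeCore (p := 2) (fun n hn => mem_C1.2 (hNC n hn))
    (fun c hc => mem_normalizer_of_forall (hCN c (mem_C1.1 hc))) (Nat.coprime_two_right.2 hN)
  have hterm : ∀ χ : IrrCharacter G,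
      (if InB0 v (χ : G → ℂ) then (χ : G → ℂ) 1 * (χ : G → ℂ) t else 0) =
      if χ = irrOne G then 1 else 0 := by
    intro χ
    by_cases h1 : χ = irrOne G
    · have h3 : InB0 v ((irrOne G : IrrCharacter G) : G → ℂ) := inB0_one h2'
      subst h1
      simp only [h3, if_true, irrOne_apply]
      norm_num
    · rw [if_neg h1]
      split_ifs with hB
      · have hval : ∀ g : G, (χ : G → ℂ) (g * x * g⁻¹ * t) = (χ : G → ℂ) t := fun g => by
          obtain ⟨n, hn, c⟩ := e g
          obtain ⟨c, hc⟩ := isConj_iff.1 c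
          rw [← char_mul_oddCore_of_inB0 h2' χ.2 hB (Invol.mul_self_of_orderOf_two ht) (hle hn), ← hc,
            irr_isClassFunction χ]
        have k1 := CfsgLib.Block.irr_sum_conj_mul χ.2 x t
        simp only [hval, sum_const, card_univ, ← Nat.card_eq_fintype_card, nsmul_eq_mul] at k1
        have k3 : (χ : G → ℂ) x ≠ (χ : G → ℂ) 1 := fun h =>
          h1 (Subtype.ext (irr_eq_one_of_charKer_eq_top χ.2 (hgen _
            (charKer_normal (irr_isClassFunction χ)) ((mem_charKer (irr_isCharacter χ)).2 h))))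
        have k4 : (Nat.card G : ℂ) * (((χ : G → ℂ) x - (χ : G → ℂ) 1) * (χ : G → ℂ) t) = 0 := by
          linear_combination -k1
        rw [(mul_eq_zero.1 ((mul_eq_zero.1 k4).resolve_left natCard_ne_zero)).resolve_left
          (sub_ne_zero.2 k3), mul_zero]
      · rfl
  have h3 := val_sum_inB0_le (v := v) t
  rw [sum_congr rfl (fun χ _ => hterm χ), sum_ite_eq', if_pos (mem_univ _)] at h3
  have h4 := val_even v h2' (n := Nat.card G) (even_iff_two_dvd.2 (ht ▸ orderOf_dvd_natCard t))
  have h6 := mul_lt_one_of_nonneg_of_lt_one_right h3 zero_le h4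
  rw [← v.map_mul, mul_one, inv_mul_cancel₀ natCard_ne_zero, v.map_one] at h6
  exact lt_irrefl _ h6

end CfsgLib.FsU
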