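import Cfsg.Agent.Lib.FsU.O2

set_option autoImplicit false
set_option linter.unusedSectionVars false

namespace CfsgLib.FsU

open Subgroup CfsgLib.Tech

universe u

variable {G : Type u} [Group G] [Finite G] {p r : ℕ} {X : Set G} {H K M M' N : Subgroup G}
  {x y z g t u v : G}

/-- the relation `(x⁻¹ y) ^ 2 ∈ Z(G)` -/
def Sim (x y : G) : Prop := x⁻¹ * y * (x⁻¹ * y) ∈ center G

theorem tw1_cen {a : G} : a ∈ center G ↔ QuotientGroup.mk' (center G) a = 1 :=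
  (QuotientGroup.eq_one_iff a).symm

theorem tw1_conj {a : G} (h : a ∈ center G) (g : G) : g * a * g⁻¹ ∈ center G :=
  (inferInstance : (center G).Normal).conj_mem _ h g

theorem Sim.conj (e : Sim x y) (g : G) : Sim (g * x * g⁻¹) (g * y * g⁻¹) := by
  have := tw1_conj e g
  unfold Sim
  convert this using 1
  group

theorem Sim.symm (e : Sim x y) : Sim y x := by
  have := inv_mem e
  unfold Sim
  convert this using 1
  group

theorem tw1_a {L : Type*} [Group L] {a b : L} (ha : a * a = 1) (hb : b * b = 1) :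
    (a⁻¹ * b * (a⁻¹ * b) * (a⁻¹ * b * (a⁻¹ * b)) = 1 →
      a⁻¹ * b * (a⁻¹ * b) * a⁻¹ * (a⁻¹ * b * (a⁻¹ * b))⁻¹ * a = 1) ∧
      a * b * a⁻¹ * b⁻¹ = a⁻¹ * b * (a⁻¹ * b) := by
  have ia : a⁻¹ = a := inv_eq_of_mul_eq_one_right ha
  have ib : b⁻¹ = b := inv_eq_of_mul_eq_one_right hb
  refine ⟨fun h => ?_, by rw [ia, ib]; group⟩
  rw [inv_eq_of_mul_eq_one_right h, ia]
  calc _ = a * b * a * (b * (a * a) * b) * a * b * a := by group
    _ = a * b * (a * a) * b * a := by conv_lhs => rw [ha, mul_one, hb, mul_one, mul_assoc _ a a]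
    _ = 1 := by rw [ha, mul_one, mul_assoc a, hb, mul_one, ha]

theorem MC.sim_or (h : MC p 2 X) (hx : x ∈ X) (hy : y ∈ X) (hz : z ∈ X) (e1 : Sim x y)
    (e2 : Sim x z) :
    br (x⁻¹ * y) (x⁻¹ * z) ∈ center G ∨ ∃ H : Subgroup G, H ≠ ⊤ ∧ x ∈ H ∧ y ∈ H ∧ z ∈ H := by
  obtain ⟨A, hz', -⟩ := h.toT2.at_line hy hz
  have hσ := A.pow_mem (mem_QQ hy hz A.memH hz')
  have c1 := A.comm_of_Z hσ
  have c2 := (A.of_mem hz hz').comm_of_Z hσ
  have s2 := A.pow_Z hσ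
  have e : (y⁻¹ * z) ^ 2 = (x⁻¹ * y)⁻¹ * (x⁻¹ * z) * ((x⁻¹ * y)⁻¹ * (x⁻¹ * z)) := by rw [sq]; group
  rw [e] at c1 c2 s2
  obtain ⟨c, rfl⟩ : ∃ c, y = x * c := ⟨x⁻¹ * y, by group⟩
  rw [Sim, tw1_cen, map_mul] at e1 e2
  rw [inv_mul_cancel_left] at e1 c1 c2 s2 ⊢
  generalize x⁻¹ * z = c' at e2 c1 c2 s2 ⊢
  obtain ⟨k1, k2⟩ := tw1_a e1 e2
  by_cases hc : c⁻¹ * c' * (c⁻¹ * c') ∈ center G
  · left
    rw [tw1_cen] at hc ⊢
    simp only [br, map_mul, map_inv] at hc ⊢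
    rw [k2, hc]
  · refine Or.inr ⟨C1 _, C1_ne_top hc, mem_C1.2 (h.toT2.comm_of_center hx ?_).symm, mem_C1.2 c1.symm,
      mem_C1.2 c2.symm⟩
    have h1 : c⁻¹ * c' * (c⁻¹ * c') * c⁻¹ * (c⁻¹ * c' * (c⁻¹ * c'))⁻¹ * c ∈ center G := by
      rw [tw1_cen]
      simp only [map_mul, map_inv]
      refine k1 ?_
      rw [sq] at s2
      simpa only [map_mul, map_inv, map_one] using congrArg (QuotientGroup.mk' (center G)) s2
    generalize c⁻¹ * c' * (c⁻¹ * c') = σ at h1 c1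
    have := tw1_conj h1 (x * c)
    convert this using 1
    calc br σ x = σ * (x * c) * c⁻¹ * σ⁻¹ * x⁻¹ := by simp only [br]; group
      _ = _ := by rw [c1]; group

theorem MC.sim_proper (h : MC p 2 X) (hx : x ∈ X) (hy : y ∈ X) (hz : z ∈ X) (e1 : Sim x y)
    (e2 : Sim x z) : ∃ H : Subgroup G, H ≠ ⊤ ∧ x ∈ H ∧ y ∈ H ∧ z ∈ H := by
  by_contra hcon
  have px : ∀ i : ℕ, x ^ i * x * (x ^ i)⁻¹ = x := fun i => by group
  have key : ∀ i j : ℕ, br (x ^ i * (x⁻¹ * y) * (x ^ i)⁻¹) (x ^ j * (x⁻¹ * z) * (x ^ j)⁻¹) ∈ center G :=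
    fun i j => by
      rcases h.sim_or hx (h.conj y hy (x ^ i)) (h.conj z hz (x ^ j)) (by simpa only [px] using e1.conj (x ^ i))
        (by simpa only [px] using e2.conj (x ^ j)) with k | ⟨H, h1, h2, h3, h4⟩
      · convert k using 2 <;> group
      · refine (hcon ⟨H, h1, h2, ?_, ?_⟩).elim
        · simpa [mul_assoc] using mul_mem (mul_mem (inv_mem (pow_mem h2 i)) h3) (pow_mem h2 i)
        · simpa [mul_assoc] using mul_mem (mul_mem (inv_mem (pow_mem h2 j)) h4) (pow_mem h2 j)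
  have n1 : RR x z ≤ NN (RR x y ⊔ center G) := by
    rw [RR, closure_le]
    rintro _ ⟨j, rfl⟩
    refine mem_normalizer_of_cj_le ?_
    rw [cj_sup, cj_eq_of_normal _ (center G)]
    refine sup_le ?_ le_sup_right
    rw [← cj_le_cj_iff (x ^ j * (x⁻¹ * z) * (x ^ j)⁻¹)⁻¹, cj_inv_cj]
    conv_lhs => rw [RR]
    rw [closure_le]
    rintro _ ⟨i, rfl⟩
    have m : x ^ i * (x⁻¹ * y) * (x ^ i)⁻¹ ∈ RR x y := subset_closure ⟨i, rfl⟩
    have := mul_mem (mem_sup_right (S := RR x y) (inv_mem (key i j))) (mem_sup_left m)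
    rw [SetLike.mem_coe, mem_cj]
    convert this using 1
    simp only [br]; group
  have pg : IsPGroup 2 (RR x z ⊔ (RR x y ⊔ center G) : Subgroup G) :=
    (h.pg x hx z hz).to_sup_of_normal_right' ((h.pg x hx y hy).to_sup_of_normal_right h.zr) n1
  have hn : x ∈ NN (RR x z ⊔ (RR x y ⊔ center G)) := by
    rw [mem_normalizer_iff_cj, cj_sup, cj_sup, cj_eq_of_normal _ (center G), mem_normalizer_iff_cj.1 (RR_norm x z),
      mem_normalizer_iff_cj.1 (RR_norm x y)]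
  have m : x ∈ RR x z ⊔ (RR x y ⊔ center G) ⊔ zpowers x := mem_sup_right (mem_zpowers x)
  refine hcon ⟨_, h.sup_ne_top hx pg hn, m, ?_, ?_⟩
  · simpa using mul_mem m (mem_sup_left (mem_sup_right (mem_sup_left (mem_RR x y))))
  · simpa using mul_mem m (mem_sup_left (mem_sup_left (mem_RR x z)))

theorem Blk.sim_mem (hM : Blk X M) (h : MC p 2 X) (hx : x ∈ X) (hy : y ∈ X) (e : Sim x y)
    (hxM : x ∈ M) : y ∈ M := by
  obtain ⟨ζ, hζ, hc⟩ := hM.exists_Z h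
  have A := h.at hM.ne hx hxM
  have c := A.comm_of_Z hζ
  have s : ζ * ζ = 1 := sq ζ ▸ A.pow_Z hζ
  have i : ζ⁻¹ = ζ := inv_eq_of_mul_eq_one_right s
  have c' : ζ * x * ζ⁻¹ = x := by rw [c, mul_inv_cancel_right]
  obtain ⟨H, h1, h2, h3, h4⟩ := h.sim_proper hx hy (h.conj y hy ζ) e (by simpa only [c'] using e.conj ζ)
  have hK : H ⊓ Tech.cj ζ H ≠ ⊤ := ne_top_of_le_ne_top h1 inf_le_left
  have xK : x ∈ H ⊓ Tech.cj ζ H := ⟨h2, by rw [← c']; exact conj_mem_cj.2 h2⟩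
  have yK : y ∈ H ⊓ Tech.cj ζ H := ⟨h3, mem_cj.2 (by rw [i]; rwa [i] at h4)⟩
  have nK : ζ ∈ NN (H ⊓ Tech.cj ζ H) := by
    rw [mem_normalizer_iff_cj, cj_inf, ← cj_mul, s, cj_one, inf_comm]
  have pg : IsPGroup 2 (zpowers ζ ⊔ QQ X (H ⊓ Tech.cj ζ H) : Subgroup G) :=
    (isPGroup_zpowers_of_pow (k := 1) (by rw [pow_one, sq, s])).to_sup_of_normal_right' (h.good _ hK)
      (zpowers_le.2 (h.toFS.NN_QQ nK))
  obtain ⟨L, hL, l1, l2⟩ := h.exists_blk_inv hx pg (by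
    rw [mem_normalizer_iff_cj, cj_sup, cj_zpowers, ← c, mul_inv_cancel_right,
      mem_normalizer_iff_cj.1 (h.toFS.QQ_norm xK)])
  rw [← h.o2 hL hM hx l1 hxM hζ (l2 (mem_sup_left (mem_zpowers ζ))) hc]
  simpa using mul_mem l1 (l2 (mem_sup_right (mem_QQ hx hy xK yK)))

theorem MC.sim_trans (h : MC p 2 X) (hx : x ∈ X) (hy : y ∈ X) (hz : z ∈ X) (e1 : Sim x y)
    (e2 : Sim x z) : Sim y z := by
  obtain ⟨M, hM, xM, -⟩ := h.exists_blk_pair hx hx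
  obtain ⟨w, hw, wM⟩ := hM.exists_out h
  obtain ⟨M', hM', xM', wM'⟩ := h.exists_blk_pair hx hw
  have b : ∀ L, Blk X L → x ∈ L → br (x⁻¹ * y) (x⁻¹ * z) ∈ ZQ X L := fun L hL xL =>
    (h.at hL.ne hx xL).br_mem (mem_QQ hx hy xL (hL.sim_mem h hx hy e1 xL))
      (mem_QQ hx hz xL (hL.sim_mem h hx hz e2 xL))
  have c : br (x⁻¹ * y) (x⁻¹ * z) ∈ center G := by_contra fun c =>
    wM (hM.eq_of_Z hM' h (b M hM xM) (b M' hM' xM') c ▸ wM')
  rw [Sim, tw1_cen, map_mul] at e1 e2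
  rw [Sim, show y⁻¹ * z = (x⁻¹ * y)⁻¹ * (x⁻¹ * z) by group]
  generalize x⁻¹ * y = a, x⁻¹ * z = a' at e1 e2 c ⊢
  rw [tw1_cen] at c ⊢
  simp only [br, map_mul, map_inv] at c ⊢
  rw [← (tw1_a e1 e2).2, c]

theorem MC.eq_of_sim (h : MC p 2 X) (hx : x ∈ X) (hy : y ∈ X) (e : Sim x y) : x = y := by
  let N : Subgroup G :=
    { carrier := {g | ∀ z ∈ X, Sim z (g * z * g⁻¹)}
      one_mem' := fun z _ => by simp [Sim]
      mul_mem' := fun {a b} ha hb z hz => by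
        have h1 := h.conj z hz b
        have := h.sim_trans h1 hz (h.conj _ h1 a) (hb z hz).symm (ha _ h1)
        convert this using 1
        group
      inv_mem' := fun {a} ha z hz => by
        have := (ha _ (h.conj z hz a⁻¹)).symm
        convert this using 1
        group }
  have hN : N.Normal := ⟨fun g hg k z hz => by
    have := (hg _ (h.conj z hz k⁻¹)).conj k
    convert this using 1 <;> group⟩
  have hc : x⁻¹ * y ∈ N := fun z hz => by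
    obtain ⟨L, hL, xL, zL⟩ := h.exists_blk_pair hx hz
    have A := h.at hL.ne hx xL
    have m1 := mem_QQ hx hy xL (hL.sim_mem h hx hy e xL)
    have m2 := mem_QQ hx hz xL zL
    have m3 := A.fs.QQ_conj (inv_mem xL) m1
    have m4 := A.br_mem (inv_mem m2) m3
    have s := h.sim_trans hx hy (h.conj y hy x⁻¹) e (by simpa using e.conj x⁻¹)
    have c : Commute (br (x⁻¹ * z)⁻¹ (x⁻¹ * (x⁻¹ * y) * x⁻¹⁻¹)) (x⁻¹ * (x⁻¹ * y) * x⁻¹⁻¹ * (x⁻¹ * y)⁻¹) :=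
      ((mem_ZQ.1 m4).2 _ (mul_mem m3 (inv_mem m1))).symm
    rw [Sim, show z⁻¹ * (x⁻¹ * y * z * (x⁻¹ * y)⁻¹) = br (x⁻¹ * z)⁻¹ (x⁻¹ * (x⁻¹ * y) * x⁻¹⁻¹) *
      (x⁻¹ * (x⁻¹ * y) * x⁻¹⁻¹ * (x⁻¹ * y)⁻¹) by simp only [br]; group, ← sq, c.mul_pow, A.pow_Z m4, one_mul]
    have := tw1_conj s (x⁻¹ * y)
    convert this using 1
    rw [sq]; group
  rcases h.nc hN with k | k
  · exact h.toT2.eq_of_ab (A := center G) (fun a _ b hb => mem_center_iff.1 hb a) hx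
      (le_normalizer_of_normal (mem_top x)) hy (k hc)
  · obtain ⟨M, hM, xM, -⟩ := h.exists_blk_pair hx hx
    obtain ⟨w, hw, wM⟩ := hM.exists_out h
    obtain ⟨u, hu, rfl⟩ := h.toFS.exists_conj hx hw
    exact (wM (hM.sim_mem h hx hw (k (h.toFS.RR_le_QQ hx hw (mem_top _) (mem_top _) hu) x hx) xM)).elim

theorem Blk.mem_Z_of_sq (hM : Blk X M) (h : MC p 2 X) (hu : u ∈ QQ X M) (e : u * u ∈ center G) :
    u ∈ ZQ X M := by
  obtain ⟨x, hx, xM⟩ := hM.exists_pt h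
  have A := h.at hM.ne hx xM
  obtain ⟨w, hw, γ, hγ, rfl⟩ := A.surj le_rfl (ZQ_le X M) (A.fs.QQ_norm xM) hu
  have ha : x⁻¹ * w * x * w⁻¹ ∈ QQ X M := by simpa using mul_mem hu (inv_mem (ZQ_le X M hγ))
  have c : Commute (x⁻¹ * w * x * w⁻¹) γ := (mem_ZQ.1 hγ).2 _ ha
  rw [← sq, c.mul_pow, A.pow_Z hγ, mul_one, sq] at e
  have := h.eq_of_sim hx (h.conj x hx w) (by simpa only [Sim, mul_assoc] using e)
  rwa [show x⁻¹ * w * x * w⁻¹ = x⁻¹ * (w * x * w⁻¹) by group, ← this, inv_mul_cancel, one_mul]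

end CfsgLib.FsU
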